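import Groth.Prelude.Def_AlgSpCov
import Groth.Agent.Lib.AlgSpace.Diag
import Groth.Agent.Lib.AlgSpace.Local

/-!
# Properties of morphisms of algebraic spaces local on the base for fpqc coverings: the skeleton

A property stable under base change, testable on affine schemes over the target, local for finite
affine open coverings of an affine target and descending along faithfully flat morphisms of affine
schemes is local on the base for fpqc coverings.
-/

set_option autoImplicit false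

universe u

open CategoryTheory CategoryTheory.Limits AlgebraicGeometry

namespace Groth.Agent.Lib.AlgSpFpqc.Cover

open AlgSp (Sp yon IsAlgSpace RepWith LocP)
open Groth.Agent.Lib.AlgSpace

variable {S : Scheme.{u}}

/-- The refinement condition of an fpqc covering with a single affine member. -/
theorem exists_refinement {ι : Type u} {Y : Sp S} {Yi : ι → Sp S} {g : ∀ i, Yi i ⟶ Y}
    (hg : AlgSp.IsFpqcCover Yi g) {Z : Over S} (hZ : IsAffine Z.left) (h : (yon S).obj Z ⟶ Y) :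
    ∃ (W : Over S) (c : W ⟶ Z) (κ : Type u) (_ : Finite κ) (O : κ → Over S) (o : ∀ j, O j ⟶ W),
      IsAffine W.left ∧ Flat c.left ∧ Surjective c.left ∧
      (∀ j, IsAffine (O j).left) ∧ (∀ j, IsOpenImmersion (o j).left) ∧
      (∀ w : ↥W.left, ∃ j y, (o j).left y = w) ∧
      ∀ j, ∃ (i : ι) (l : (yon S).obj (O j) ⟶ Yi i),
        l ≫ g i = (yon S).map (o j) ≫ (yon S).map c ≫ h := by
  obtain ⟨m, W, c, hWa, hcf, hcs, hl⟩ := hg.2 Z hZ h
  let O : ULift.{u} (Fin m) → Over S := fun j ↦ W j.down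
  have : ∀ j, IsAffine ((fun j ↦ (O j).left) j) := fun j ↦ hWa j.down
  let C : sigmaOver O ⟶ Z := Over.homMk (Sigma.desc fun j ↦ (c j.down).left)
    (Sigma.hom_ext _ _ fun j ↦ by simp [O])
  have hC : ∀ j, sigmaOverι O j ≫ C = c j.down := fun j ↦ Over.OverMorphism.ext (by simp [C])
  refine ⟨sigmaOver O, C, ULift.{u} (Fin m), inferInstance, O, sigmaOverι O,
    inferInstanceAs (IsAffine (∐ fun j ↦ (O j).left)),
    IsZariskiLocalAtSource.sigmaDesc (P := @Flat) fun j ↦ hcf j.down, ⟨fun z ↦ ?_⟩,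
    fun j ↦ hWa j.down, fun j ↦ inferInstanceAs (IsOpenImmersion (Sigma.ι (fun j ↦ (O j).left) j)),
    fun w ↦ ?_, fun j ↦ ?_⟩
  · obtain ⟨j, y, rfl⟩ := hcs z
    refine ⟨(sigmaOverι O ⟨j⟩).left y, ?_⟩
    rw [← Scheme.Hom.comp_apply, ← Over.comp_left, hC]
  · obtain ⟨j, y, hy⟩ := (sigmaOpenCover fun j ↦ (O j).left).exists_eq w
    exact ⟨j, y, hy⟩
  · obtain ⟨i, l, hl⟩ := hl j.down
    exact ⟨i, l, by rw [hl, ← hC, Functor.map_comp, Category.assoc]⟩

/-- Stability under base change by algebraic spaces. -/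
def StableBC (P : MorphismProperty (Sp S)) : Prop :=
  ∀ ⦃X Y Y' X' : Sp S⦄, IsAlgSpace X → IsAlgSpace Y → IsAlgSpace Y' → IsAlgSpace X' →
    ∀ (f : X ⟶ Y) (g : Y' ⟶ Y) (fst : X' ⟶ X) (snd : X' ⟶ Y'),
      IsPullback fst snd f g → P f → P snd

/-- The property can be tested on affine schemes over the target. -/
def AffineTest (P : MorphismProperty (Sp S)) : Prop :=
  ∀ ⦃X Y : Sp S⦄, IsAlgSpace X → IsAlgSpace Y → ∀ (f : X ⟶ Y),
    (∀ (Z : Over S), IsAffine Z.left → ∀ (g : (yon S).obj Z ⟶ Y) (W : Sp S) (fst : W ⟶ X)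
      (snd : W ⟶ (yon S).obj Z), IsAlgSpace W → IsPullback fst snd f g → P snd) → P f

/-- Locality for finite affine open coverings of an affine target. -/
def ZarLocal (P : MorphismProperty (Sp S)) : Prop :=
  ∀ ⦃T : Over S⦄, IsAffine T.left → ∀ ⦃κ : Type u⦄ [Finite κ] (O : κ → Over S) (o : ∀ j, O j ⟶ T),
    (∀ j, IsAffine (O j).left) → (∀ j, IsOpenImmersion (o j).left) →
    (∀ t : ↥T.left, ∃ j y, (o j).left y = t) →
    ∀ ⦃X : Sp S⦄, IsAlgSpace X → ∀ (f : X ⟶ (yon S).obj T),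
      (∀ j (Q : Sp S) (fst : Q ⟶ X) (snd : Q ⟶ (yon S).obj (O j)), IsAlgSpace Q →
        IsPullback fst snd f ((yon S).map (o j)) → P snd) → P f

/-- Descent along faithfully flat morphisms of affine schemes. -/
def AffineDesc (P : MorphismProperty (Sp S)) : Prop :=
  ∀ ⦃T T' : Over S⦄ (c : T' ⟶ T), IsAffine T.left → IsAffine T'.left → Flat c.left →
    Surjective c.left → ∀ ⦃X X' : Sp S⦄ (f : X ⟶ (yon S).obj T) (fst : X' ⟶ X)
      (f' : X' ⟶ (yon S).obj T'), IsAlgSpace X → IsAlgSpace X' →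
      IsPullback fst f' f ((yon S).map c) → P f' → P f

theorem isLocalOnBase (P : MorphismProperty (Sp S)) (hbc : StableBC P) (haff : AffineTest P)
    (hzar : ZarLocal P) (hdesc : AffineDesc P) :
    AlgSp.IsLocalOnBase (AlgSp.IsFpqcCover (S := S)) P := by
  intro ι Y Yi g hY hYi hg X f hX Xi p q hXi sq
  refine ⟨fun hf i ↦ hbc hX hY (hYi i) (hXi i) f (g i) (q i) (p i) (sq i) hf, fun hp ↦
    haff hX hY f fun Z hZ h W fst snd hW sqW ↦ ?_⟩
  obtain ⟨T, c, κ, _, O, o, hT, hcf, hcs, hOa, hoi, hsurj, hl⟩ := exists_refinement hg hZ h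
  have sqT := IsPullback.of_hasPullback snd ((yon S).map c)
  have hXT : IsAlgSpace (pullback snd ((yon S).map c)) :=
    isAlgSpace_of_isPullback sqT (IsAlgSpace.yon_obj Z).diag hW (IsAlgSpace.yon_obj T)
  refine hdesc c hZ hT hcf hcs snd _ _ hW hXT sqT
    (hzar hT O o hOa hoi hsurj hXT _ fun j Q fst' snd' hQ sqQ ↦ ?_)
  obtain ⟨i, l, hli⟩ := hl j
  have sq1 := (sqQ.paste_horiz sqT).paste_horiz sqW
  simp only [Category.assoc] at sq1
  rw [← hli] at sq1
  have sq2 := IsPullback.of_right' sq1 (sq i)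
  exact hbc (hXi i) (hYi i) (IsAlgSpace.yon_obj (O j)) hQ (p i) l _ snd' sq2 (hp i)

end Groth.Agent.Lib.AlgSpFpqc.Cover
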