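import Mathlib.AlgebraicGeometry.Morphisms.LocalFlatDescent
import Groth.Agent.Lib.AlgSpFpqc.Cover
import Groth.Agent.Lib.AlgSpMor.LocP
import Groth.Agent.Lib.EtSite.QuasiFiniteDescent
import Groth.Agent.Lib.DescAlg.Descends

/-!
# `LocP Q` is local on the base for fpqc coverings

For `Q` etale local on source and target, Zariski local on the target and descending along flat
surjective quasi-compact morphisms.
-/

set_option autoImplicit false
set_option backward.isDefEq.respectTransparency false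
set_option backward.isDefEq.respectTransparency.types false

universe u

open CategoryTheory CategoryTheory.Limits AlgebraicGeometry

namespace Groth.Agent.Lib.AlgSpFpqc.LocP

open AlgSp (Sp yon IsAlgSpace RepWith LocP)
open Groth.Agent.Lib.AlgSpace Groth.Agent.Lib.AlgSpFpqc.Cover
open Groth.Agent.Lib.SourceDescent.Scheme (EtaleLocalST)

variable {S : Scheme.{u}} {Q : MorphismProperty Scheme.{u}}

/-- If a base change of `γ : G ⟶ h_T` has `LocP Q` then so does the base change of a chart. -/
theorem chart_baseChange {G : Sp S} {T T' U : Over S} {γ : G ⟶ (yon S).obj T}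
    {c : (yon S).obj U ⟶ G} {m : U ⟶ T} (hc : RepWith @Etale c) (hm : c ≫ γ = (yon S).map m)
    {s : T' ⟶ T} {G' : Sp S} {fst : G' ⟶ G} {snd : G' ⟶ (yon S).obj T'}
    (sq : IsPullback fst snd γ ((yon S).map s)) (h : LocP Q snd) :
    Q (pullback.snd m s).left := by
  have sqU := isPullback_yon (IsPullback.of_hasPullback m s)
  let c' : (yon S).obj (pullback m s) ⟶ G' :=
    sq.lift ((yon S).map (pullback.fst m s) ≫ c) ((yon S).map (pullback.snd m s))
      (by rw [Category.assoc, hm, sqU.w])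
  have sqc : IsPullback ((yon S).map (pullback.fst m s)) c' c fst :=
    IsPullback.of_bot (by simpa [c', hm] using sqU) (by simp [c']) sq
  exact h c' (𝟙 _) (pullback.snd m s) (repWith_baseChange sqc hc) (AlgSp.repWith_id _ _)
    (by rw [Category.comp_id]; simp [c'])

/-- `LocP Q` for a morphism to a scheme is `Q` for a chart. -/
theorem locP_of_chart_to_yon (hQ : EtaleLocalST Q) {G : Sp S} (hG : IsAlgSpace G) {T U : Over S}
    {γ : G ⟶ (yon S).obj T} {c : (yon S).obj U ⟶ G} (hc : RepWith @Etale c)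
    (hcs : RepWith @Surjective c) {m : U ⟶ T} (hm : c ≫ γ = (yon S).map m) (h : Q m.left) :
    LocP Q γ :=
  Lib.AlgSpMor.LocP.locP_of_chart hQ hG.diag (IsAlgSpace.yon_obj T).diag hc hcs (b := 𝟙 _) (h := m)
    (AlgSp.repWith_id _ _) (by rw [Category.comp_id, hm]) h

theorem stableBC (hQ : EtaleLocalST Q) : StableBC (LocP Q (S := S)) :=
  fun _ _ _ _ hX hY hY' _ _ _ _ _ sq hf ↦ Lib.AlgSpMor.LocP.locP_of_isPullback hQ hX hY hY' sq hf

theorem affineTest (hQ : EtaleLocalST Q) (hT : IsZariskiLocalAtTarget Q) :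
    AffineTest (LocP Q (S := S)) := by
  intro X Y hX hY f h
  obtain ⟨V, b, hb, hbs⟩ := hY.atlas
  have sq := IsPullback.of_hasPullback f b
  have hP : IsAlgSpace (pullback f b) :=
    isAlgSpace_of_isPullback sq hY.diag hX (IsAlgSpace.yon_obj V)
  refine Lib.AlgSpMor.LocP.locP_of_isPullback_of_cover hQ hX hY hb hbs sq ?_
  obtain ⟨U, c, hc, hcs⟩ := hP.atlas
  obtain ⟨m, hm⟩ := (yon S).map_surjective (c ≫ pullback.snd f b)
  refine locP_of_chart_to_yon hQ hP hc hcs hm.symm ?_
  refine IsZariskiLocalAtTarget.of_iSup_eq_top (fun O : V.left.affineOpens ↦ O.1)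
    (iSup_affineOpens_eq_top V.left) fun O ↦ ?_
  let Z : Over S := Over.mk (O.1.ι ≫ V.hom)
  let s : Z ⟶ V := Over.homMk O.1.ι
  have sqs := IsPullback.of_hasPullback (pullback.snd f b) ((yon S).map s)
  have h' := h Z O.2 ((yon S).map s ≫ b) _ _ _
    (isAlgSpace_of_isPullback sqs (IsAlgSpace.yon_obj V).diag hP (IsAlgSpace.yon_obj Z))
    (sqs.paste_horiz sq)
  have := chart_baseChange (Q := Q) hc hm.symm sqs h'
  exact (MorphismProperty.arrow_mk_iso_iff Q
    (Arrow.isoMk ((isPullback_morphismRestrict m.left O.1).flip.isoIsPullback _ _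
      ((IsPullback.of_hasPullback m s).map (Over.forget S)))
      (Iso.refl _) (by simp [s]))).2 this

theorem zarLocal (hQ : EtaleLocalST Q) (hT : IsZariskiLocalAtTarget Q) :
    ZarLocal (LocP Q (S := S)) := by
  intro T _ κ _ O o _ ho hsurj X hX f h
  obtain ⟨U, c, hc, hcs⟩ := hX.atlas
  obtain ⟨m, hm⟩ := (yon S).map_surjective (c ≫ f)
  refine locP_of_chart_to_yon hQ hX hc hcs hm.symm ?_
  refine IsZariskiLocalAtTarget.of_openCover (P := Q)
    (Scheme.Cover.mkOfCovers κ (fun j ↦ (O j).left) (fun j ↦ (o j).left) hsurj ho) fun j ↦ ?_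
  have sqs := IsPullback.of_hasPullback f ((yon S).map (o j))
  have := chart_baseChange (Q := Q) hc hm.symm sqs (h j _ _ _
    (isAlgSpace_of_isPullback sqs (IsAlgSpace.yon_obj T).diag hX (IsAlgSpace.yon_obj (O j))) sqs)
  exact (MorphismProperty.arrow_mk_iso_iff Q
    (Arrow.isoMk ((IsPullback.of_hasPullback m.left (o j).left).isoIsPullback _ _
      ((IsPullback.of_hasPullback m (o j)).map (Over.forget S)))
      (Iso.refl _) (by
        simp only [Iso.refl_hom, Scheme.Cover.pullbackHom]
        exact (IsPullback.isoIsPullback_hom_snd _ _ _ _).trans (Category.comp_id _).symm))).2 this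

theorem affineDesc (hQ : EtaleLocalST Q)
    (hD : Q.DescendsAlong (@Surjective ⊓ @Flat ⊓ @QuasiCompact : MorphismProperty Scheme.{u})) :
    AffineDesc (LocP Q (S := S)) := by
  intro T T' c hT hT' hcf hcs X X' f fst f' hX hX' sq h
  obtain ⟨U, a, ha, has⟩ := hX.atlas
  obtain ⟨m, hm⟩ := (yon S).map_surjective (a ≫ f)
  refine locP_of_chart_to_yon hQ hX ha has hm.symm ?_
  have hqc : QuasiCompact c.left :=
    have := hT; have := hT'; inferInstance
  exact MorphismProperty.of_isPullback_of_descendsAlong (P := Q)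
    (Q := (@Surjective ⊓ @Flat ⊓ @QuasiCompact : MorphismProperty Scheme.{u}))
    ((IsPullback.of_hasPullback m c).map (Over.forget S)).flip ⟨⟨hcs, hcf⟩, hqc⟩
    (chart_baseChange (Q := Q) ha hm.symm sq h)

theorem isLocalOnBase (hQ : EtaleLocalST Q) (hT : IsZariskiLocalAtTarget Q)
    (hD : Q.DescendsAlong (@Surjective ⊓ @Flat ⊓ @QuasiCompact : MorphismProperty Scheme.{u})) :
    AlgSp.IsLocalOnBase (AlgSp.IsFpqcCover (S := S)) (LocP Q) :=
  Cover.isLocalOnBase _ (stableBC hQ) (affineTest hQ hT) (zarLocal hQ hT) (affineDesc hQ hD)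

end Groth.Agent.Lib.AlgSpFpqc.LocP
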