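import Mathlib.AlgebraicGeometry.Morphisms.FlatDescent
import Groth.Agent.Lib.AlgSpFpqc.LocP
import Groth.Agent.Lib.AlgSpMor.Sep
import Groth.Agent.Lib.AlgSpMor.LqfRep
import Groth.Agent.Lib.AlgSpace.DescendRep

/-!
# Properties of representable morphisms local on the base for fpqc coverings

Properties of the diagonal, and `RepWith P` for `P` stronger than "separated, locally quasi-finite
and locally of finite type" (such morphisms of algebraic spaces are representable).
-/

set_option autoImplicit false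
set_option backward.isDefEq.respectTransparency false
set_option backward.isDefEq.respectTransparency.types false

universe u

open CategoryTheory CategoryTheory.Limits AlgebraicGeometry

namespace Groth.Agent.Lib.AlgSpFpqc.Rep

open AlgSp (Sp yon IsAlgSpace RepWith Representable)
open Groth.Agent.Lib.AlgSpace Groth.Agent.Lib.AlgSpFpqc.Cover

variable {S : Scheme.{u}} (P : MorphismProperty Scheme.{u})

/-- Descent of `RepWith P` for a representable morphism along base changes of the base. -/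
theorem repWith_of_family [P.IsStableUnderBaseChange] {A B : Sp S} {T : Over S} {d : A ⟶ B}
    (hd : Representable d) (b : B ⟶ (yon S).obj T) {κ : Type u} (O : κ → Over S)
    (o : ∀ j, O j ⟶ T)
    (hdesc : ∀ {U V : Over S} (g : U ⟶ T) (v : V ⟶ U),
      (∀ j, ∃ (V' : Over S) (k : V' ⟶ V) (v' : V' ⟶ pullback g (o j)),
        IsPullback k.left v'.left v.left (pullback.fst g (o j)).left ∧ P v'.left) → P v.left)
    (h : ∀ j, ∃ (A' B' : Sp S) (a : A' ⟶ A) (d' : A' ⟶ B') (e : B' ⟶ B)
      (π : B' ⟶ (yon S).obj (O j)),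
      IsPullback a d' d e ∧ IsPullback e π b ((yon S).map (o j)) ∧ RepWith P d') :
    RepWith P d := by
  refine repWith_of_exists fun U ξ ↦ ⟨_, hd.snd ξ, hd.fst ξ, hd.isPullback ξ, ?_⟩
  obtain ⟨g, hg⟩ := (yon S).map_surjective (ξ ≫ b)
  refine hdesc g _ fun j ↦ ?_
  obtain ⟨A', B', a, d', e, π, sqA, sqB, hd'⟩ := h j
  have sqU := isPullback_yon (IsPullback.of_hasPullback g (o j))
  let ξ' : (yon S).obj (pullback g (o j)) ⟶ B' :=
    sqB.lift ((yon S).map (pullback.fst g (o j)) ≫ ξ) ((yon S).map (pullback.snd g (o j)))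
      (by rw [Category.assoc, ← hg, sqU.w])
  have sq1 : IsPullback ((yon S).map (pullback.fst g (o j))) ξ' ξ e :=
    IsPullback.of_bot (by simpa [ξ', hg] using sqU) (by simp [ξ']) sqB
  obtain ⟨V', v', f', sqV, hv⟩ := repWith_exists hd' ξ'
  have sq2 := sqV.paste_horiz sqA
  rw [← sq1.w] at sq2
  have sq3 := IsPullback.of_right' sq2 (hd.isPullback ξ)
  obtain ⟨k, hk⟩ := (yon S).map_surjective ((hd.isPullback ξ).lift (f' ≫ a)
    ((yon S).map v' ≫ (yon S).map (pullback.fst g (o j))) (by rw [sq2.w, Category.assoc]))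
  rw [← hk] at sq3
  exact ⟨V', k, v', (isPullback_of_yon_map sq3).map (Over.forget S), hv⟩

theorem property_of_openCover [P.IsStableUnderBaseChange] [IsZariskiLocalAtTarget P] {T : Over S}
    {κ : Type u} (O : κ → Over S) (o : ∀ j, O j ⟶ T) (ho : ∀ j, IsOpenImmersion (o j).left)
    (hsurj : ∀ t : ↥T.left, ∃ j y, (o j).left y = t) {U V : Over S} (g : U ⟶ T) (v : V ⟶ U)
    (h : ∀ j, ∃ (V' : Over S) (k : V' ⟶ V) (v' : V' ⟶ pullback g (o j)),
      IsPullback k.left v'.left v.left (pullback.fst g (o j)).left ∧ P v'.left) : P v.left := by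
  have sq : ∀ j, IsPullback (pullback.fst g (o j)).left (pullback.snd g (o j)).left g.left
      (o j).left := fun j ↦ (IsPullback.of_hasPullback g (o j)).map (Over.forget S)
  have hop : ∀ j, IsOpenImmersion (pullback.fst g (o j)).left := fun j ↦
    MorphismProperty.of_isPullback (sq j).flip (ho j)
  refine IsZariskiLocalAtTarget.of_openCover (P := P)
    (Scheme.Cover.mkOfCovers κ (fun j ↦ (pullback g (o j)).left)
      (fun j ↦ (pullback.fst g (o j)).left) (fun u ↦ ?_) hop) fun j ↦ ?_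
  · obtain ⟨j, y, hy⟩ := hsurj (g.left u)
    obtain ⟨x, hx, -⟩ := Scheme.exists_preimage_of_isPullback (sq j) u y hy.symm
    exact ⟨j, x, hx⟩
  · obtain ⟨V', k, v', sqv, hv⟩ := h j
    simp only [Scheme.Cover.pullbackHom]
    exact (MorphismProperty.arrow_mk_iso_iff P (Arrow.isoMk
      ((IsPullback.of_hasPullback v.left (pullback.fst g (o j)).left).isoIsPullback _ _ sqv)
      (Iso.refl _) ((IsPullback.isoIsPullback_hom_snd _ _ _ _).trans (Category.comp_id _).symm))).2 hv

theorem property_of_fpqc [P.IsStableUnderBaseChange]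
    [P.DescendsAlong (@Surjective ⊓ @Flat ⊓ @QuasiCompact : MorphismProperty Scheme.{u})]
    {T T' : Over S} (c : T' ⟶ T) (hT : IsAffine T.left) (hT' : IsAffine T'.left)
    (hf : Flat c.left) (hs : Surjective c.left) {U V : Over S} (g : U ⟶ T) (v : V ⟶ U)
    (h : ∀ _ : PUnit.{u + 1}, ∃ (V' : Over S) (k : V' ⟶ V) (v' : V' ⟶ pullback g c),
      IsPullback k.left v'.left v.left (pullback.fst g c).left ∧ P v'.left) : P v.left := by
  obtain ⟨V', k, v', sqv, hv⟩ := h ⟨⟩
  have sq : IsPullback (pullback.fst g c).left (pullback.snd g c).left g.left c.left :=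
    (IsPullback.of_hasPullback g c).map (Over.forget S)
  have hqc : QuasiCompact c.left := have := hT; have := hT'; inferInstance
  exact MorphismProperty.of_isPullback_of_descendsAlong (P := P)
    (Q := (@Surjective ⊓ @Flat ⊓ @QuasiCompact : MorphismProperty Scheme.{u})) sqv.flip
    ⟨⟨MorphismProperty.of_isPullback sq.flip hs, MorphismProperty.of_isPullback sq.flip hf⟩,
      MorphismProperty.of_isPullback sq.flip hqc⟩ hv

/-! ### Properties of the diagonal -/

theorem exists_diagonal_square {X : Sp S} {T T' : Over S} (f : X ⟶ (yon S).obj T) (c : T' ⟶ T)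
    {X' : Sp S} {fst : X' ⟶ X} {f' : X' ⟶ (yon S).obj T'}
    (sq : IsPullback fst f' f ((yon S).map c)) :
    ∃ (e : pullback f' f' ⟶ pullback f f) (π : pullback f' f' ⟶ (yon S).obj T'),
      IsPullback fst (pullback.diagonal f') (pullback.diagonal f) e ∧
      IsPullback e π (pullback.fst f f ≫ f) ((yon S).map c) := by
  let p := (yon S).map c
  refine ⟨pullback.map f' f' f f fst fst p sq.w.symm sq.w.symm, pullback.fst f' f' ≫ f',
    Lib.AlgSpMor.Sep.isPullback_diagonal_map sq, ?_⟩
  have h1 := (IsPullback.of_hasPullback f' f').flip.paste_horiz sq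
  rw [← sq.w] at h1
  have h2 : pullback.snd f' f' ≫ fst =
      pullback.map f' f' f f fst fst p sq.w.symm sq.w.symm ≫ pullback.snd f f := by simp
  rw [h2] at h1
  exact (IsPullback.of_right h1 (by simp) (IsPullback.of_hasPullback f f).flip).paste_vert sq

theorem isLocalOnBase_diagonal [P.IsStableUnderBaseChange] [IsZariskiLocalAtTarget P]
    [P.DescendsAlong (@Surjective ⊓ @Flat ⊓ @QuasiCompact : MorphismProperty Scheme.{u})] :
    AlgSp.IsLocalOnBase (AlgSp.IsFpqcCover (S := S))
      (fun _ _ f ↦ RepWith P (pullback.diagonal f)) := by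
  refine Cover.isLocalOnBase _
    (fun _ _ _ _ _ _ _ _ _ _ _ _ sq hf ↦ Lib.AlgSpMor.Sep.repWith_diagonal_baseChange sq hf)
    (fun X Y hX hY f h ↦ Lib.AlgSpMor.Sep.repWith_diagonal_of_affine hX.diag
      fun Z hZ g Q fst snd sq ↦ h Z hZ g Q fst snd
        (isAlgSpace_of_isPullback sq hY.diag hX (IsAlgSpace.yon_obj Z)) sq)
    (fun T _ κ _ O o _ ho hsurj X hX f h ↦ ?_)
    fun T T' c hT hT' hf hs X X' f fst f' hX _ sq h ↦ ?_
  · refine repWith_of_family P (Lib.AlgSpMor.Sep.representable_diagonal f hX.diag)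
      (pullback.fst f f ≫ f) O o (fun g v hj ↦ property_of_openCover P O o ho hsurj g v hj)
      fun j ↦ ?_
    have sq := IsPullback.of_hasPullback f ((yon S).map (o j))
    obtain ⟨e, π, s1, s2⟩ := exists_diagonal_square f (o j) sq
    exact ⟨_, _, _, _, e, π, s1, s2, h j _ _ _
      (isAlgSpace_of_isPullback sq (IsAlgSpace.yon_obj T).diag hX (IsAlgSpace.yon_obj (O j))) sq⟩
  · refine repWith_of_family P (Lib.AlgSpMor.Sep.representable_diagonal f hX.diag)
      (pullback.fst f f ≫ f) (fun _ : PUnit.{u + 1} ↦ T') (fun _ ↦ c)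
      (fun g v hj ↦ property_of_fpqc P c hT hT' hf hs g v hj) fun _ ↦ ?_
    obtain ⟨e, π, s1, s2⟩ := exists_diagonal_square f c sq
    exact ⟨_, _, _, _, e, π, s1, s2, h⟩

/-! ### Representable morphisms -/

/-- A property of morphisms of schemes implying separated, locally quasi-finite and locally of finite
type, so that morphisms of algebraic spaces which have it locally are representable. -/
def SepLqf : Prop :=
  ∀ ⦃A B : Scheme.{u}⦄ (g : A ⟶ B), P g → IsSeparated g ∧ LocallyQuasiFinite g ∧ LocallyOfFiniteType g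

theorem isSeparatedMor_of_repWith {X Y : Sp S} (hY : IsAlgSpace Y) {f : X ⟶ Y}
    (h : RepWith @IsSeparated f) : AlgSp.IsSeparatedMor f :=
  Lib.AlgSpMor.Sep.repWith_diagonal_of_affine (representable_diag_of_representable h.1 hY.diag)
    fun _ _ ξ Q fst snd sq ↦ by
      obtain ⟨V, v, a, sqV, hv⟩ := repWith_exists h ξ
      exact Lib.AlgSpMor.Sep.repWith_diagonal_of_eq (sq.isoIsPullback _ _ sqV) (Iso.refl _) (by simp)
        ((AlgSp.isSeparatedMor_yon_map_iff v).2 hv)

theorem props_of_repWith (hP : SepLqf P) {X Y : Sp S} (hY : IsAlgSpace Y) {f : X ⟶ Y}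
    (h : RepWith P f) :
    AlgSp.LocP (@LocallyQuasiFinite ⊓ @LocallyOfFiniteType) f ∧ AlgSp.IsSeparatedMor f :=
  ⟨Lib.AlgSpMor.LocP.locP_of_repWith Lib.AlgSpMor.LocP.lqfLft
      (repWith_mono h fun _ _ g hg ↦ (hP g hg).2),
    isSeparatedMor_of_repWith hY (repWith_mono h fun _ _ g hg ↦ (hP g hg).1)⟩

theorem property_of_affine [IsZariskiLocalAtTarget P] {X Y : Sp S} {f : X ⟶ Y}
    (hr : Representable f)
    (h : ∀ (Z : Over S), IsAffine Z.left → ∀ (g : (yon S).obj Z ⟶ Y) (W : Sp S) (fst : W ⟶ X)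
      (snd : W ⟶ (yon S).obj Z), IsPullback fst snd f g → RepWith P snd)
    {U : Over S} (ξ : (yon S).obj U ⟶ Y) : P (hr.snd ξ).left := by
  refine IsZariskiLocalAtTarget.of_iSup_eq_top (fun O : U.left.affineOpens ↦ O.1)
    (iSup_affineOpens_eq_top U.left) fun O ↦ ?_
  let Z : Over S := Over.mk (O.1.ι ≫ U.hom)
  let j : Z ⟶ U := Over.homMk O.1.ι
  have sq1 := (isPullback_yon (IsPullback.of_hasPullback (hr.snd ξ) j)).paste_horiz (hr.isPullback ξ)
  have hp := h Z O.2 ((yon S).map j ≫ ξ) _ _ _ sq1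
  have hP' : P (pullback.snd (hr.snd ξ) j).left :=
    repWith_property hp (ξ := 𝟙 _) (fst := 𝟙 _) IsPullback.of_id_fst
  exact (MorphismProperty.arrow_mk_iso_iff P
    (Arrow.isoMk ((isPullback_morphismRestrict (hr.snd ξ).left O.1).flip.isoIsPullback _ _
      ((IsPullback.of_hasPullback (hr.snd ξ) j).map (Over.forget S)))
      (Iso.refl _) (by simp [j]))).2 hP'

theorem isLocalOnBase_repWith [P.IsStableUnderBaseChange] [IsZariskiLocalAtTarget P]
    [P.DescendsAlong (@Surjective ⊓ @Flat ⊓ @QuasiCompact : MorphismProperty Scheme.{u})]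
    (hP : SepLqf P) : AlgSp.IsLocalOnBase (AlgSp.IsFpqcCover (S := S)) (RepWith P) := by
  have hqf : AlgSp.IsLocalOnBase (AlgSp.IsFpqcCover (S := S))
      (AlgSp.LocP (@LocallyQuasiFinite ⊓ @LocallyOfFiniteType)) :=
    LocP.isLocalOnBase Lib.AlgSpMor.LocP.lqfLft inferInstance
      (have := Lib.EtSite.QuasiFiniteDescent.descendsAlong_locallyQuasiFinite.{u}; inferInstance)
  have hsep : AlgSp.IsLocalOnBase (AlgSp.IsFpqcCover (S := S)) AlgSp.IsSeparatedMor :=
    isLocalOnBase_diagonal @IsClosedImmersion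
  intro ι Y Yi g hY hYi hg X f hX Xi p q hXi sq
  refine ⟨fun hf i ↦ repWith_baseChange (sq i) hf, fun hp ↦ ?_⟩
  have hr : Representable f := Lib.AlgSpMor.LqfRep.representable hX hY
    ((hqf Yi g hY hYi hg f hX Xi p q hXi sq).2 fun i ↦ (props_of_repWith P hP (hYi i) (hp i)).1)
    ((hsep Yi g hY hYi hg f hX Xi p q hXi sq).2 fun i ↦ (props_of_repWith P hP (hYi i) (hp i)).2)
  refine repWith_of_exists fun U ξ ↦ ⟨_, hr.snd ξ, hr.fst ξ, hr.isPullback ξ,
    property_of_affine P hr (fun Z hZ h W fst snd sqW ↦ ?_) ξ⟩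
  have hW : IsAlgSpace W := isAlgSpace_of_isPullback sqW hY.diag hX (IsAlgSpace.yon_obj Z)
  have hrs : Representable snd := representable_baseChange sqW hr
  obtain ⟨T, c, κ, _, O, o, hT, hcf, hcs, hOa, hoi, hsurj, hl⟩ := exists_refinement hg hZ h
  have sqT := IsPullback.of_hasPullback snd ((yon S).map c)
  have hrT : Representable (pullback.snd snd ((yon S).map c)) := representable_baseChange sqT hrs
  refine repWith_of_family P hrs (𝟙 _) (fun _ : PUnit.{u + 1} ↦ T) (fun _ ↦ c)
    (fun g v hj ↦ property_of_fpqc P c hZ hT hcf hcs g v hj) fun _ ↦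
    ⟨_, _, _, _, _, 𝟙 _, sqT, IsPullback.of_id_snd, ?_⟩
  refine repWith_of_family P hrT (𝟙 _) O o (fun g v hj ↦ property_of_openCover P O o hoi hsurj g v hj)
    fun j ↦ ?_
  have sqO := IsPullback.of_hasPullback (pullback.snd snd ((yon S).map c)) ((yon S).map (o j))
  refine ⟨_, _, _, _, _, 𝟙 _, sqO, IsPullback.of_id_snd, ?_⟩
  obtain ⟨i, l, hli⟩ := hl j
  have sq1 := (sqO.paste_horiz sqT).paste_horiz sqW
  simp only [Category.assoc] at sq1
  rw [← hli] at sq1
  exact repWith_baseChange (IsPullback.of_right' sq1 (sq i)) (hp i)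

end Groth.Agent.Lib.AlgSpFpqc.Rep
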