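import Groth.Prelude.Def_AlgSpMor5
import Groth.Agent.Lib.AlgSpFpqc.Rep
import Groth.Agent.Lib.AlgSpMor.AffineDescent

/-!
# Isomorphisms, monomorphisms, immersions and finite morphisms for the fpqc locality criteria
-/

set_option autoImplicit false
set_option backward.isDefEq.respectTransparency false
set_option backward.isDefEq.respectTransparency.types false

universe u

open CategoryTheory CategoryTheory.Limits AlgebraicGeometry

namespace Groth.Agent.Lib.AlgSpFpqc.Classes

open AlgSp (Sp yon IsAlgSpace RepWith Representable)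
open Groth.Agent.Lib.AlgSpace

variable {S : Scheme.{u}}

theorem isIso_of_repWith {X Y : Sp S} {f : X ⟶ Y}
    (h : RepWith (MorphismProperty.isomorphisms Scheme.{u}) f) : IsIso f :=
  isIso_of_yon f fun T ↦ by
    constructor
    · intro a a' e
      have : Mono f := mono_of_repWith (fun _ _ g (hg : IsIso g) ↦ (inferInstance : Mono g)) h
      exact (cancel_mono f).1 e
    · intro b
      obtain ⟨V, v, c, sq, hv⟩ := repWith_exists h b
      haveI : IsIso v.left := hv
      haveI : IsIso v := by
        have : IsIso ((Over.forget S).map v) := hv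
        exact isIso_of_reflects_iso v (Over.forget S)
      refine ⟨(yon S).map (inv v) ≫ c, ?_⟩
      show ((yon S).map (inv v) ≫ c) ≫ f = b
      rw [Category.assoc, sq.w, ← Category.assoc, ← Functor.map_comp, IsIso.inv_hom_id,
        CategoryTheory.Functor.map_id, Category.id_comp]

theorem isIso_iff_repWith {X Y : Sp S} (f : X ⟶ Y) :
    IsIso f ↔ RepWith (MorphismProperty.isomorphisms Scheme.{u}) f :=
  ⟨fun _ ↦ repWith_of_isIso _ f, isIso_of_repWith⟩

theorem mono_iff_repWith {X Y : Sp S} (f : X ⟶ Y) :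
    Mono f ↔ RepWith (MorphismProperty.isomorphisms Scheme.{u}) (pullback.diagonal f) :=
  (pullback.isIso_diagonal_iff f).symm.trans (isIso_iff_repWith _)

theorem sepLqf_isomorphisms : Rep.SepLqf (MorphismProperty.isomorphisms Scheme.{u}) := fun _ _ g hg ↦
  have : IsIso g := hg
  ⟨inferInstance, inferInstance, inferInstance⟩

theorem sepLqf_openImmersion : Rep.SepLqf (@IsOpenImmersion.{u}) := fun _ _ g hg ↦
  have : IsOpenImmersion g := hg
  ⟨inferInstance, SourceDescent.Scheme.locallyQuasiFinite_of_etale g, inferInstance⟩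

theorem sepLqf_closedImmersion : Rep.SepLqf (@IsClosedImmersion.{u}) := fun _ _ g hg ↦
  have : IsClosedImmersion g := hg
  ⟨inferInstance, inferInstance, inferInstance⟩

theorem sepLqf_isFinite : Rep.SepLqf (@IsFinite.{u}) := fun _ _ g hg ↦
  have : IsFinite g := hg
  ⟨inferInstance, inferInstance, inferInstance⟩

theorem sepLqf_finLocFree : Rep.SepLqf (AlgSp.finLocFree.{u}) := fun _ _ g hg ↦
  sepLqf_isFinite g hg.1

theorem finLocFree_eq : (AlgSp.finLocFree.{u}) =
    ((((@IsFinite : MorphismProperty Scheme.{u}) ⊓ @Flat : MorphismProperty Scheme.{u})) ⊓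
      @LocallyOfFinitePresentation : MorphismProperty Scheme.{u}) :=
  MorphismProperty.ext _ _ fun _ _ _ ↦ ⟨fun h ↦ ⟨⟨h.1, h.2.1⟩, h.2.2⟩, fun h ↦ ⟨h.1.1, h.1.2, h.2⟩⟩

instance finLocFree_isZariskiLocalAtTarget : IsZariskiLocalAtTarget (AlgSp.finLocFree.{u}) := by
  rw [finLocFree_eq]; infer_instance

instance finLocFree_descendsAlong : (AlgSp.finLocFree.{u}).DescendsAlong
    (@Surjective ⊓ @Flat ⊓ @QuasiCompact : MorphismProperty Scheme.{u}) := by
  rw [finLocFree_eq]; infer_instance

/-- Locality transfers along a rewriting of the property on morphisms of algebraic spaces. -/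
theorem isLocalOnBase_congr {P Q : MorphismProperty (Sp S)} {τ : AlgSp.CovNotion S}
    (e : ∀ ⦃X Y : Sp S⦄, IsAlgSpace X → IsAlgSpace Y → ∀ f : X ⟶ Y, P f ↔ Q f)
    (h : AlgSp.IsLocalOnBase τ Q) : AlgSp.IsLocalOnBase τ P :=
  fun _ _ Yi g hY hYi hg _ f hX Xi p q hXi sq ↦
    (e hX hY f).trans ((h Yi g hY hYi hg f hX Xi p q hXi sq).trans
      (forall_congr' fun i ↦ (e (hXi i) (hYi i) (p i)).symm))

end Groth.Agent.Lib.AlgSpFpqc.Classes
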