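import Mathlib.AlgebraicGeometry.Morphisms.Immersion
import Groth.Agent.H81.InvariantOpen
import Groth.Agent.Lib.DescAlg.Descends
import Groth.Agent.Lib.AlgSpFpqc.Classes

/-!
# Descent of quasi-compact immersions along fpqc morphisms
-/

set_option autoImplicit false
set_option backward.isDefEq.respectTransparency false
set_option backward.isDefEq.respectTransparency.types false

universe u

open CategoryTheory CategoryTheory.Limits AlgebraicGeometry

namespace Groth.Agent.Lib.AlgSpFpqc.ImmersionDescent

/-- Preimage under a flat morphism commutes with the closure of the range of a quasi-compact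
morphism. -/
theorem preimage_closure_range {X Y Z : Scheme.{u}} (f : X ⟶ Z) [Flat f] (g : Y ⟶ Z) [QuasiCompact g] :
    f ⁻¹' closure (Set.range g) = closure (f ⁻¹' Set.range g) := by
  refine subset_antisymm (fun x hx ↦ ?_) (f.continuous.closure_preimage_subset _)
  obtain ⟨y, -, hy⟩ := H81.InvariantOpen.exists_specializes_of_mem_closure_image g isClosed_univ
    (show f x ∈ closure (g '' Set.univ) by rwa [Set.image_univ])
  obtain ⟨x', hx', e⟩ := Flat.generalizingMap f hy
  exact mem_closure_iff_nhds.2 fun U hU ↦
    let ⟨V, hVU, hV, hxV⟩ := mem_nhds_iff.1 hU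
    ⟨x', hVU (hx'.mem_open hV hxV), ⟨y, e.symm⟩⟩

instance descendsAlong_immersion_inf_quasiCompact :
    MorphismProperty.DescendsAlong (@IsImmersion ⊓ @QuasiCompact : MorphismProperty Scheme.{u})
      (@Surjective ⊓ @Flat ⊓ @QuasiCompact : MorphismProperty Scheme.{u}) := by
  refine MorphismProperty.DescendsAlong.mk' fun {X Y Z} f g _ hf h ↦ ?_
  have := hf.1.1
  have := hf.1.2
  have : QuasiCompact f := hf.2
  have himm : IsImmersion (pullback.fst f g) := h.1
  have hgq : QuasiCompact g := MorphismProperty.of_isPullback_of_descendsAlong (P := @QuasiCompact)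
    (Q := (@Surjective ⊓ @Flat ⊓ @QuasiCompact : MorphismProperty Scheme.{u}))
    (IsPullback.of_hasPullback f g) hf h.2
  refine ⟨?_, hgq⟩
  have hrange : Set.range (pullback.fst f g) = f ⁻¹' Set.range g := Scheme.Pullback.range_fst f g
  let O : Set Z := coborder (Set.range g)
  have hcb : f ⁻¹' O = coborder (f ⁻¹' Set.range g) := by
    simp only [O, coborder, Set.preimage_compl, Set.preimage_diff, preimage_closure_range f g]
  have hO : IsOpen O := by
    rw [← (Flat.isQuotientMap_of_surjective f).isOpen_preimage, hcb, ← hrange]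
    exact (pullback.fst f g).isLocallyClosed_range.isOpen_coborder
  let U : Z.Opens := ⟨O, hO⟩
  have hsub : Set.range g ⊆ Set.range U.ι := by
    rw [Scheme.Opens.range_ι]; exact subset_coborder
  let g' := IsOpenImmersion.lift U.ι g hsub
  have hg' : g' ≫ U.ι = g := IsOpenImmersion.lift_fac _ _ _
  suffices IsClosedImmersion g' by rw [← hg']; infer_instance
  have sqU := IsPullback.of_hasPullback f U.ι
  let s : pullback f g ⟶ pullback f U.ι :=
    pullback.lift (pullback.fst f g) (pullback.snd f g ≫ g')
      (by rw [Category.assoc, hg', pullback.condition])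
  have sq : IsPullback s (pullback.snd f g) (pullback.snd f U.ι) g' := by
    refine IsPullback.of_right ?_ (pullback.lift_snd _ _ _) sqU
    rw [pullback.lift_fst, hg']
    exact IsPullback.of_hasPullback f g
  have : IsImmersion (s ≫ pullback.fst f U.ι) := by rw [pullback.lift_fst]; exact himm
  have : IsImmersion s := IsImmersion.of_comp s (pullback.fst f U.ι)
  have hs : IsClosedImmersion s := by
    refine IsClosedImmersion.of_isPreimmersion s ?_
    have e : Set.range s = pullback.fst f U.ι ⁻¹' Set.range (pullback.fst f g) := by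
      have he : Set.range (pullback.fst f g) = pullback.fst f U.ι '' Set.range s := by
        rw [← Set.range_comp]
        show _ = Set.range (⇑(s ≫ pullback.fst f U.ι))
        rw [pullback.lift_fst]
      rw [he, Set.preimage_image_eq _ (pullback.fst f U.ι).isOpenEmbedding.injective]
    rw [e, hrange]
    have hsub2 : Set.range (pullback.fst f U.ι) = coborder (f ⁻¹' Set.range g) := by
      rw [Scheme.Pullback.range_fst, Scheme.Opens.range_ι]
      exact hcb
    have hcl := isClosed_preimage_val_coborder (s := f ⁻¹' Set.range g)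
    rw [isClosed_induced_iff] at hcl
    obtain ⟨C, hC, hCe⟩ := hcl
    have : pullback.fst f U.ι ⁻¹' (f ⁻¹' Set.range g) = pullback.fst f U.ι ⁻¹' C := by
      ext p
      exact (Set.ext_iff.1 hCe ⟨_, hsub2 ▸ Set.mem_range_self p⟩).symm
    rw [this]
    exact hC.preimage (pullback.fst f U.ι).continuous
  have hQ : (@Surjective ⊓ @Flat ⊓ @QuasiCompact : MorphismProperty Scheme.{u})
      (pullback.snd f U.ι) := ⟨⟨inferInstance, inferInstance⟩, inferInstance⟩
  exact MorphismProperty.of_isPullback_of_descendsAlong (P := @IsClosedImmersion) sq hQ hs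

theorem sepLqf : Rep.SepLqf (@IsImmersion ⊓ @QuasiCompact : MorphismProperty Scheme.{u}) :=
  fun _ _ g hg ↦
  have : IsImmersion g := hg.1
  ⟨inferInstance, inferInstance, inferInstance⟩

theorem isLocalOnBase {S : Scheme.{u}} :
    AlgSp.IsLocalOnBase (AlgSp.IsFpqcCover (S := S))
      (AlgSp.RepWith (@IsImmersion ⊓ @QuasiCompact)) :=
  Rep.isLocalOnBase_repWith _ sepLqf

end Groth.Agent.Lib.AlgSpFpqc.ImmersionDescent
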