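import Groth.Agent.Lib.AlgSpFpqc.Fppf
import Groth.Agent.Lib.AlgSpMor.RepDescent

/-!
# fppf coverings refine to affine schemes; they are fpqc coverings
-/

set_option autoImplicit false
set_option backward.isDefEq.respectTransparency false
set_option backward.isDefEq.respectTransparency.types false

universe u

open CategoryTheory CategoryTheory.Limits AlgebraicGeometry

namespace Groth.Agent.Lib.AlgSpFpqc.FppfCover

open AlgSp (Sp yon IsAlgSpace RepWith LocP Points)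
open Groth.Agent.Lib.AlgSpace

variable {S : Scheme.{u}}

/-- A scheme over an fppf covered space has an fppf covering by schemes mapping to the members. -/
theorem exists_scheme_pieces {ι : Type u} {X : Sp S} {Xi : ι → Sp S} {g : ∀ i, Xi i ⟶ X}
    (hg : AlgSp.IsFppfCover Xi g) (hX : IsAlgSpace X) (hXi : ∀ i, IsAlgSpace (Xi i)) {Z : Over S}
    (h : (yon S).obj Z ⟶ X) :
    ∃ (W : ι → Over S) (e : ∀ i, W i ⟶ Z) (c : ∀ i, (yon S).obj (W i) ⟶ Xi i),
      (∀ i, Flat (e i).left) ∧ (∀ i, LocallyOfFinitePresentation (e i).left) ∧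
      (∀ z : ↥Z.left, ∃ i w, (e i).left w = z) ∧ ∀ i, c i ≫ g i = (yon S).map (e i) ≫ h := by
  have hQ : ∀ i, IsAlgSpace (pullback (g i) h) := fun i ↦
    isAlgSpace_of_isPullback (IsPullback.of_hasPullback (g i) h) hX.diag (hXi i)
      (IsAlgSpace.yon_obj Z)
  choose W d hd hds using fun i ↦ (hQ i).atlas
  choose e he using fun i ↦ (yon S).map_surjective (d i ≫ pullback.snd (g i) h)
  have hl : ∀ i, LocP ((@Flat : MorphismProperty Scheme.{u}) ⊓ @LocallyOfFinitePresentation)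
      (pullback.snd (g i) h) := fun i ↦
    Lib.AlgSpMor.LocP.locP_of_isPullback Fppf.etaleLocalST (hXi i) hX (IsAlgSpace.yon_obj Z)
      (IsPullback.of_hasPullback (g i) h) (Source.locP_inf.2 (hg.1 i))
  have hP := fun i ↦ hl i (d i) (𝟙 _) (e i) (hd i) (AlgSp.repWith_id _ _)
    (by rw [he, Category.comp_id])
  refine ⟨W, e, fun i ↦ d i ≫ pullback.fst (g i) h, fun i ↦ (hP i).1, fun i ↦ (hP i).2, fun z ↦ ?_,
    fun i ↦ by rw [Category.assoc, pullback.condition, he, Category.assoc]⟩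
  obtain ⟨i, x, hx⟩ := hg.2 (Points.map h (Points.ofScheme Z z))
  obtain ⟨y, -, hy⟩ := exists_of_isPullback (IsPullback.of_hasPullback (g i) h) x _ hx
  obtain ⟨w, rfl⟩ := surjective_ofPt (hds i) y
  refine ⟨i, w, (Points.schemeEquiv Z).injective ?_⟩
  show Points.ofScheme Z _ = Points.ofScheme Z z
  rw [← hy, Points.map_ofPt, ← he, ← Category.comp_id ((yon S).map (e i)), ofPt_yon_map_comp]

theorem isFpqcCover {ι : Type u} {X : Sp S} {Xi : ι → Sp S} {g : ∀ i, Xi i ⟶ X}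
    (hg : AlgSp.IsFppfCover Xi g) (hX : IsAlgSpace X) (hXi : ∀ i, IsAlgSpace (Xi i)) :
    AlgSp.IsFpqcCover Xi g := by
  refine ⟨fun i ↦ (hg.1 i).1, fun Z hZ h ↦ ?_⟩
  obtain ⟨W, e, c, hf, hp, hs, hc⟩ := exists_scheme_pieces hg hX hXi h
  let κ := Σ i, (W i).left.affineOpens
  have hop : ∀ i, IsOpenMap (e i).left := fun i ↦ by
    have := hf i; have := hp i
    exact (e i).left.isOpenMap
  obtain ⟨t, ht⟩ := (isCompact_univ (X := ↥Z.left)).elim_finite_subcover
    (fun j : κ ↦ (e j.1).left '' (j.2.1 : Set ↥(W j.1).left)) (fun j ↦ hop j.1 _ j.2.1.2)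
    (fun z _ ↦ by
      obtain ⟨i, w, rfl⟩ := hs z
      obtain ⟨O, hO, hw, -⟩ := exists_isAffineOpen_mem_and_subset (U := ⊤) (Set.mem_univ w)
      exact Set.mem_iUnion.2 ⟨⟨i, O, hO⟩, w, hw, rfl⟩)
  let el : Fin t.card → κ := fun j ↦ (t.equivFin.symm j).1
  refine ⟨t.card, fun j ↦ Over.mk ((el j).2.1.ι ≫ (W (el j).1).hom),
    fun j ↦ Over.homMk (U := Over.mk ((el j).2.1.ι ≫ (W (el j).1).hom)) (el j).2.1.ι ≫ e (el j).1,
    fun j ↦ (el j).2.2, fun j ↦ ?_, fun z ↦ ?_,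
    fun j ↦ ⟨(el j).1, (yon S).map (Over.homMk (U := Over.mk ((el j).2.1.ι ≫ (W (el j).1).hom))
      (el j).2.1.ι) ≫ c (el j).1, by simp only [Category.assoc, hc, Functor.map_comp]⟩⟩
  · have := hf (el j).1
    exact inferInstanceAs (Flat ((el j).2.1.ι ≫ (e (el j).1).left))
  · obtain ⟨j, hj, w, hw, rfl⟩ := Set.mem_iUnion₂.1 (ht (Set.mem_univ z))
    obtain ⟨n, hn⟩ : ∃ n, el n = j := ⟨t.equivFin ⟨j, hj⟩, by simp [el]⟩
    subst hn
    exact ⟨n, ⟨w, hw⟩, rfl⟩

theorem isLocalOnBase_immersion :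
    AlgSp.IsLocalOnBase (AlgSp.IsFppfCover (S := S)) (RepWith @IsImmersion) := by
  intro ι Y Yi g hY hYi hg X f hX Xi p q hXi sq
  refine ⟨fun hf i ↦ repWith_baseChange (sq i) hf, fun hp ↦
    Lib.AlgSpMor.RepDescent.repWith_immersion_of_affine fun Z _ h ↦ ?_⟩
  obtain ⟨W, e, c, hef, hep, hes, hc⟩ := exists_scheme_pieces hg hY hYi h
  choose V v a sqV hv using fun i ↦ repWith_exists (hp i) (c i)
  have sqX := IsPullback.of_hasPullback f h
  have hsq : ∀ i, IsPullback (sqX.lift (a i ≫ q i) ((yon S).map (v i) ≫ (yon S).map (e i))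
      (by rw [Category.assoc, Category.assoc, (sq i).w, reassoc_of% (sqV i).w, hc]))
      ((yon S).map (v i)) (pullback.snd f h) ((yon S).map (e i)) := fun i ↦ by
    have h1 := (sqV i).paste_horiz (sq i)
    rw [hc i] at h1
    exact IsPullback.of_right (by rw [sqX.lift_fst]; exact h1) (sqX.lift_snd _ _ _) sqX
  obtain ⟨b, G, t, ht, hpb, sqb⟩ := Lib.AlgSpMor.RepDescent.exists_isPullback_sigma hsq
  have : IsImmersion G.left := IsZariskiLocalAtTarget.of_openCover (P := @IsImmersion)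
    (sigmaOpenCover fun j ↦ (W j).left) fun j ↦ by
      show IsImmersion (pullback.snd G.left (sigmaOverι W j).left)
      rw [← (IsPullback.of_hasPullback _ _).isoIsPullback_hom_snd _ _ (hpb j)]
      exact (MorphismProperty.cancel_left_of_respectsIso @IsImmersion _ _).2 (hv j)
  have : Flat t.left := by
    refine (IsZariskiLocalAtSource.iff_of_openCover (P := @Flat)
      (sigmaOpenCover fun j ↦ (W j).left)).2 fun j ↦ ?_
    show Flat ((sigmaOverι W j).left ≫ t.left)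
    rw [← Over.comp_left, ht]
    exact hef j
  have : LocallyOfFinitePresentation t.left := by
    refine (IsZariskiLocalAtSource.iff_of_openCover (P := @LocallyOfFinitePresentation)
      (sigmaOpenCover fun j ↦ (W j).left)).2 fun j ↦ ?_
    show LocallyOfFinitePresentation ((sigmaOverι W j).left ≫ t.left)
    rw [← Over.comp_left, ht]
    exact hep j
  have : Surjective t.left := ⟨fun z ↦ by
    obtain ⟨j, w, rfl⟩ := hes z
    refine ⟨(sigmaOverι W j).left w, ?_⟩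
    rw [← Scheme.Hom.comp_apply, ← Over.comp_left, ht]⟩
  exact Lib.AlgSpMor.RepDescent.exists_pullback_of_cover_immersion (fppfCover_mk t.left)
    (sqb.paste_horiz sqX)

theorem isFpqcCover_iff_of_chart {ι : Type u} {X : Sp S} {Xi : ι → Sp S} {g : ∀ i, Xi i ⟶ X}
    (hX : IsAlgSpace X) (hXi : ∀ i, IsAlgSpace (Xi i)) {U : Over S} {p : (yon S).obj U ⟶ X}
    (hp : RepWith @Etale p) (hps : RepWith @Surjective p) {Ui : ι → Sp S}
    (q : ∀ i, Ui i ⟶ (yon S).obj U) (p' : ∀ i, Ui i ⟶ Xi i)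
    (sq : ∀ i, IsPullback (q i) (p' i) p (g i)) :
    AlgSp.IsFpqcCover Xi g ↔ AlgSp.IsFpqcCover Ui q := by
  refine ⟨fun hg ↦ ⟨fun i ↦ Lib.AlgSpMor.LocP.locP_of_isPullback SourceDescent.Scheme.flat (hXi i)
    hX (IsAlgSpace.yon_obj U) (sq i).flip (hg.1 i), fun Z hZ h ↦ ?_⟩, fun hg ↦
    ⟨fun i ↦ Lib.AlgSpMor.LocP.locP_of_isPullback_of_cover SourceDescent.Scheme.flat (hXi i) hX hp
      hps (sq i).flip (hg.1 i), fun Z hZ h ↦ ?_⟩⟩
  · obtain ⟨m, W, c, hW, hf, hs, hl⟩ := hg.2 Z hZ (h ≫ p)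
    refine ⟨m, W, c, hW, hf, hs, fun j ↦ ?_⟩
    obtain ⟨i, l, hli⟩ := hl j
    exact ⟨i, (sq i).lift ((yon S).map (c j) ≫ h) l (by rw [Category.assoc, hli]),
      (sq i).lift_fst _ _ _⟩
  · obtain ⟨R, r, s, sqR⟩ := exists_isPullback_yon hX.diag h p
    have : Etale r.left := repWith_property hp sqR.flip
    have : Surjective r.left := repWith_property hps sqR.flip
    obtain ⟨C, hC, hCu⟩ := r.left.isOpenMap.exists_opens_image_eq_of_prespectralSpace
      r.left.continuous (U := Set.univ) (by simp [r.left.surjective.range_eq]) isOpen_univ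
      (have := hZ; isCompact_univ)
    obtain ⟨B, hBf, hBu⟩ :=
      (isCompact_and_isOpen_iff_finite_and_eq_biUnion_affineOpens (U := (C : Set ↥R.left))).1 ⟨hC, C.2⟩
    have := hBf.to_subtype
    choose m W c hW hf hs hl using fun O : ↥B ↦
      hg.2 (Over.mk (O.1.1.ι ≫ R.hom)) O.1.2
        ((yon S).map (Over.homMk (U := Over.mk (O.1.1.ι ≫ R.hom)) O.1.1.ι ≫ s))
    let el := Finite.equivFin (Σ O : ↥B, Fin (m O))
    refine ⟨Nat.card (Σ O : ↥B, Fin (m O)), fun j ↦ W (el.symm j).1 (el.symm j).2,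
      fun j ↦ c (el.symm j).1 (el.symm j).2 ≫
        Over.homMk (U := Over.mk ((el.symm j).1.1.1.ι ≫ R.hom)) (el.symm j).1.1.1.ι ≫ r,
      fun j ↦ hW _ _, fun j ↦ ?_, fun z ↦ ?_, fun j ↦ ?_⟩
    · have := hf (el.symm j).1 (el.symm j).2
      exact inferInstanceAs (Flat (_ ≫ (el.symm j).1.1.1.ι ≫ r.left))
    · obtain ⟨x, hx, rfl⟩ : z ∈ r.left '' (C : Set ↥R.left) := by rw [hCu]; trivial
      rw [hBu] at hx
      obtain ⟨O, hO, hxO⟩ := Set.mem_iUnion₂.1 hx
      obtain ⟨k, y, hy⟩ := hs ⟨O, hO⟩ ⟨x, hxO⟩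
      obtain ⟨j, hj⟩ := el.symm.surjective ⟨⟨O, hO⟩, k⟩
      refine ⟨j, ?_⟩
      beta_reduce
      have key : ∀ e : Σ O : ↥B, Fin (m O), e = ⟨⟨O, hO⟩, k⟩ → r.left x ∈ Set.range
          (c e.1 e.2 ≫ Over.homMk (U := Over.mk (e.1.1.1.ι ≫ R.hom)) e.1.1.1.ι ≫ r).left := by
        rintro e rfl
        exact ⟨y, congrArg (fun t ↦ r.left (O.1.ι t)) hy⟩
      exact key _ hj
    · obtain ⟨i, l, hli⟩ := hl (el.symm j).1 (el.symm j).2
      refine ⟨i, l ≫ p' i, ?_⟩
      rw [Category.assoc, ← (sq i).w, reassoc_of% hli]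
      simp only [Functor.map_comp, Category.assoc]
      rw [sqR.w]

end Groth.Agent.Lib.AlgSpFpqc.FppfCover
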