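import Groth.Agent.Lib.AlgSpFpqc.Classes
import Groth.Agent.Lib.AlgSpMor.QuasiAffineDescent
import Groth.Agent.Lib.AlgSpMor.RepDescent
import Groth.Agent.Lib.FFDesc.AffineBase

/-!
# fpqc descent to representability for algebraic spaces

An algebraic space over an affine scheme `T` which becomes a quasi-affine scheme over a faithfully
flat affine `T' ⟶ T` is a scheme: the descended scheme receives a morphism from the space (maps to
schemes descend), which becomes an isomorphism over a covering.
-/

set_option autoImplicit false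
set_option backward.isDefEq.respectTransparency false
set_option backward.isDefEq.respectTransparency.types false

universe u

open CategoryTheory CategoryTheory.Limits AlgebraicGeometry

namespace Groth.Agent.Lib.AlgSpFpqc.Affine

open AlgSp (Sp yon IsAlgSpace RepWith Representable)
open Groth.Agent.Lib.AlgSpace

variable {S : Scheme.{u}}

/-- A faithfully flat affine morphism gives an fpqc covering. -/
theorem isFpqcCover_single {T T' : Over S} (c : T' ⟶ T) [IsAffineHom c.left] [Flat c.left]
    [Surjective c.left] :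
    AlgSp.IsFpqcCover (fun _ : PUnit.{u + 1} ↦ (yon S).obj T') (fun _ ↦ (yon S).map c) := by
  refine ⟨fun _ ↦ Lib.AlgSpMor.LocP.locP_of_repWith SourceDescent.Scheme.flat
    ((AlgSp.repWith_yon_map_iff _ _).2 inferInstance), fun Z hZ h ↦ ?_⟩
  obtain ⟨h, rfl⟩ := (yon S).map_surjective h
  have sq : IsPullback (pullback.fst h c).left (pullback.snd h c).left h.left c.left :=
    (IsPullback.of_hasPullback h c).map (Over.forget S)
  have : IsAffineHom (pullback.fst h c).left := MorphismProperty.of_isPullback sq.flip ‹_›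
  have : Flat (pullback.fst h c).left := MorphismProperty.of_isPullback sq.flip ‹_›
  have : Surjective (pullback.fst h c).left := MorphismProperty.of_isPullback sq.flip ‹_›
  refine ⟨1, fun _ ↦ pullback h c, fun _ ↦ pullback.fst h c, fun _ ↦ ?_, fun _ ↦ inferInstance,
    fun z ↦ ⟨0, (pullback.fst h c).left.surjective z⟩, fun _ ↦ ⟨⟨⟩, (yon S).map (pullback.snd h c), ?_⟩⟩
  · exact isAffine_of_isAffineHom (pullback.fst h c).left
  · rw [← Functor.map_comp, ← Functor.map_comp, pullback.condition]

variable {X : Sp S} {T T' V' : Over S} {f : X ⟶ (yon S).obj T} {c : T' ⟶ T}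
  {fst : (yon S).obj V' ⟶ X} {g : V' ⟶ T'}

/-- fpqc descent to representability. -/
theorem exists_descended (hX : IsAlgSpace X) [IsAffine T.left] [IsAffine T'.left] [Flat c.left]
    [Surjective c.left] (sq : IsPullback fst ((yon S).map g) f ((yon S).map c))
    [Scheme.IsQuasiAffine V'.left] :
    ∃ (W : Over S) (w : W ⟶ T) (e : X ≅ (yon S).obj W) (k : V' ⟶ W),
      e.hom ≫ (yon S).map w = f ∧ IsPullback g.left k.left c.left w.left := by
  have : Scheme.IsQuasiAffine (DescendAux.datum sq).obj.left := ‹Scheme.IsQuasiAffine V'.left›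
  obtain ⟨U, q, H, -, -⟩ := FFDesc.exists_isDescended_of_quasiAffine (DescendAux.datum sq)
  let W : Over S := Over.mk (U.hom ≫ T.hom)
  let w : W ⟶ T := Over.homMk U.hom
  let k : V' ⟶ W := Over.homMk q (DescendAux.q_comp_hom sq H)
  have sqW : IsPullback g.left k.left c.left w.left := H.isPullback
  have hrel : ∀ {Z : Over S} (x y : Z ⟶ V'),
      (yon S).map x ≫ fst = (yon S).map y ≫ fst → x ≫ k = y ≫ k := fun x y h ↦
    Over.OverMorphism.ext ((DescendAux.rel_iff sq H x y).1 h)
  have hkw : g ≫ c = k ≫ w := Over.OverMorphism.ext sqW.w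
  have : IsAffineHom c.left := inferInstance
  have : IsAffineHom k.left := MorphismProperty.of_isPullback sqW ‹_›
  have : Flat k.left := MorphismProperty.of_isPullback sqW ‹_›
  have : Surjective k.left := MorphismProperty.of_isPullback sqW ‹_›
  -- morphisms from schemes over `X` to `W`
  have hdesc : ∀ {A : Over S} (a : (yon S).obj A ⟶ X), ∃ (A' : Over S) (p : A' ⟶ A) (b : A' ⟶ V')
      (l : A ⟶ W), FFDesc.fpqcCover p.left ∧ (yon S).map b ≫ fst = (yon S).map p ≫ a ∧
        p ≫ l = b ≫ k := by
    intro A a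
    obtain ⟨m, hm⟩ := (yon S).map_surjective (a ≫ f)
    let p : pullback m c ⟶ A := pullback.fst m c
    obtain ⟨b, hb⟩ := (yon S).map_surjective
      (sq.lift ((yon S).map p ≫ a) ((yon S).map (pullback.snd m c))
        (by rw [Category.assoc, ← hm, ← Functor.map_comp, pullback.condition, Functor.map_comp]))
    have sqp : IsPullback p.left (pullback.snd m c).left m.left c.left :=
      (IsPullback.of_hasPullback m c).map (Over.forget S)
    have : IsAffineHom p.left := MorphismProperty.of_isPullback sqp.flip ‹_›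
    have : Flat p.left := MorphismProperty.of_isPullback sqp.flip ‹_›
    have : Surjective p.left := MorphismProperty.of_isPullback sqp.flip ‹_›
    have hp : FFDesc.fpqcCover p.left := FFDesc.fpqcCover_of_quasiCompact _
    have := hp.effectiveEpi
    have hb1 : (yon S).map b ≫ fst = (yon S).map p ≫ a := by rw [hb, sq.lift_fst]
    have key : ∀ {Z : Scheme.{u}} (x y : Z ⟶ (pullback m c).left), x ≫ p.left = y ≫ p.left →
        x ≫ b.left ≫ k.left = y ≫ b.left ≫ k.left := fun {Z} x y hxy ↦ by
      let Z₀ : Over S := Over.mk (x ≫ (pullback m c).hom)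
      let x' : Z₀ ⟶ pullback m c := Over.homMk x
      let y' : Z₀ ⟶ pullback m c := Over.homMk y (by
        show y ≫ (pullback m c).hom = x ≫ (pullback m c).hom
        rw [← Over.w p, reassoc_of% hxy])
      have e : x' ≫ p = y' ≫ p := Over.OverMorphism.ext hxy
      have := hrel (x' ≫ b) (y' ≫ b) (by
        simp only [Functor.map_comp, Category.assoc, hb1]
        rw [← Category.assoc, ← Functor.map_comp, e, Functor.map_comp, Category.assoc])
      simpa [x', y'] using congrArg (fun t ↦ Over.Hom.left t) this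
    let l₀ : A.left ⟶ W.left := EffectiveEpi.desc p.left (b.left ≫ k.left) fun x y hxy ↦ key x y hxy
    have hl₀ : p.left ≫ l₀ = b.left ≫ k.left := EffectiveEpi.fac _ _ _
    refine ⟨_, p, b, Over.homMk l₀ ?_, hp, hb1, Over.OverMorphism.ext hl₀⟩
    rw [← cancel_epi p.left, reassoc_of% hl₀, Over.w k, Over.w b, Over.w p]
  obtain ⟨A, a, ha, has⟩ := hX.atlas
  obtain ⟨A', p, b, l, hp, hb, hl⟩ := hdesc a
  have hl' : ∀ {Z : Over S} (r : Z ⟶ A) (bz : Z ⟶ V'),
      (yon S).map bz ≫ fst = (yon S).map r ≫ a → r ≫ l = bz ≫ k := fun {Z} r bz hbz ↦ by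
    have sqt : IsPullback (pullback.fst r p).left (pullback.snd r p).left r.left p.left :=
      (IsPullback.of_hasPullback r p).map (Over.forget S)
    have ht : FFDesc.fpqcCover (pullback.fst r p).left := MorphismProperty.of_isPullback sqt.flip hp
    have := ht.effectiveEpi
    have e := hrel (pullback.fst r p ≫ bz) (pullback.snd r p ≫ b) (by
      simp only [Functor.map_comp, Category.assoc, hbz, hb]
      rw [← Category.assoc, ← Functor.map_comp, pullback.condition, Functor.map_comp, Category.assoc])
    have e' : pullback.fst r p ≫ r ≫ l = pullback.fst r p ≫ bz ≫ k := by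
      rw [Category.assoc, Category.assoc] at e
      rw [e, pullback.condition_assoc, hl]
    apply Over.OverMorphism.ext
    rw [← cancel_epi (pullback.fst r p).left]
    simpa using congrArg (fun t ↦ Over.Hom.left t) e'
  have := isLocallySurjective_of_etale ha has
  obtain ⟨m, hm⟩ := exists_desc a (IsPullback.of_hasPullback a a) ((yon S).map l) (by
    refine hom_ext fun Z z ↦ ?_
    obtain ⟨r₁, hr₁⟩ := (yon S).map_surjective (z ≫ pullback.fst a a)
    obtain ⟨r₂, hr₂⟩ := (yon S).map_surjective (z ≫ pullback.snd a a)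
    have hr : (yon S).map r₁ ≫ a = (yon S).map r₂ ≫ a := by
      rw [hr₁, hr₂, Category.assoc, Category.assoc, pullback.condition]
    rw [← Category.assoc, ← Category.assoc, ← hr₁, ← hr₂, ← Functor.map_comp, ← Functor.map_comp]
    congr 1
    obtain ⟨Z', t, bz, -, ht, hbz, -⟩ := hdesc ((yon S).map r₁ ≫ a)
    have := ht.effectiveEpi
    have e1 := hl' (t ≫ r₁) bz (by rw [hbz, Functor.map_comp, Category.assoc])
    have e2 := hl' (t ≫ r₂) bz (by rw [hbz, Functor.map_comp, Category.assoc, hr])
    have e : t ≫ r₁ ≫ l = t ≫ r₂ ≫ l := by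
      rw [← Category.assoc, ← Category.assoc, e1, e2]
    apply Over.OverMorphism.ext
    rw [← cancel_epi t.left]
    simpa using congrArg (fun t ↦ Over.Hom.left t) e)
  have hmw : m ≫ (yon S).map w = f := by
    have : Epi a := inferInstance
    obtain ⟨n, hn⟩ := (yon S).map_surjective (a ≫ f)
    rw [← cancel_epi a, reassoc_of% hm, ← Functor.map_comp, ← hn]
    congr 1
    have := hp.effectiveEpi
    have e : p ≫ l ≫ w = p ≫ n := by
      apply (yon S).map_injective
      rw [reassoc_of% hl, ← hkw, Functor.map_comp, Functor.map_comp, ← sq.w, reassoc_of% hb,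
        Functor.map_comp, hn]
    apply Over.OverMorphism.ext
    rw [← cancel_epi p.left]
    simpa using congrArg (fun t ↦ Over.Hom.left t) e
  have hfstm : fst ≫ m = (yon S).map k := by
    obtain ⟨A₁, d, d', sqd⟩ := exists_isPullback_yon hX.diag fst a
    have : Etale d.left := repWith_property ha sqd.flip
    have : Surjective d.left := repWith_property has sqd.flip
    have := epi_yon_map d (fppfCover_mk d.left)
    rw [← cancel_epi ((yon S).map d), reassoc_of% sqd.w, hm, ← Functor.map_comp, ← Functor.map_comp,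
      hl' d' d sqd.w]
  have sqU : IsPullback ((yon S).map k) ((yon S).map g) ((yon S).map w) ((yon S).map c) :=
    isPullback_yon (IsPullback.of_map (Over.forget S) hkw.symm sqW.flip)
  have sqm : IsPullback fst (𝟙 _) m ((yon S).map k) :=
    IsPullback.of_bot (by rw [Category.id_comp, hmw]; exact sq) (by rw [hfstm, Category.id_comp]) sqU
  have hm_iso : IsIso m := (Classes.isIso_iff_repWith m).2
    ((Rep.isLocalOnBase_repWith _ Classes.sepLqf_isomorphisms
      (fun _ : PUnit.{u + 1} ↦ (yon S).obj V') (fun _ ↦ (yon S).map k) (IsAlgSpace.yon_obj W)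
      (fun _ ↦ IsAlgSpace.yon_obj V') (isFpqcCover_single k) m hX (fun _ ↦ (yon S).obj V')
      (fun _ ↦ 𝟙 _) (fun _ ↦ fst) (fun _ ↦ IsAlgSpace.yon_obj V') (fun _ ↦ sqm)).2
        fun _ ↦ (Classes.isIso_iff_repWith (𝟙 ((yon S).obj V'))).1 inferInstance)
  exact ⟨W, w, asIso m, k, hmw, sqW⟩

/-- Descent of `RepWith P` for `P` stronger than quasi-affine. -/
theorem isLocalOnBase_repWith (P : MorphismProperty Scheme.{u}) [P.IsStableUnderBaseChange]
    [IsZariskiLocalAtTarget P]
    [P.DescendsAlong (@Surjective ⊓ @Flat ⊓ @QuasiCompact : MorphismProperty Scheme.{u})]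
    (hP : ∀ ⦃A B : Scheme.{u}⦄ (g : A ⟶ B), P g → Lib.AlgSpMor.QuasiAffineDescent.qaHom g) :
    AlgSp.IsLocalOnBase (AlgSp.IsFpqcCover (S := S)) (RepWith P) := by
  have hfppf : P.IsLocalAtTarget Scheme.fppfPrecoverage :=
    have : P.DescendsAlong fppfCover := inferInstanceAs
      (P.DescendsAlong (@Surjective ⊓ @Flat ⊓ @LocallyOfFinitePresentation))
    isLocalAtTarget_fppf P
  intro ι Y Yi gi hY hYi hg X f hX Xi p q hXi sqi
  refine ⟨fun hf i ↦ repWith_baseChange (sqi i) hf, fun hp ↦ ?_⟩
  refine Lib.AlgSpMor.RepDescent.repWith_of_affine P (fun A B p hp D hD ↦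
    Lib.AlgSpMor.QuasiAffineDescent.effective_qaHom p hp D (hP _ hD)) fun Z hZ h ↦ ?_
  have sqX := IsPullback.of_hasPullback f h
  have hXZ : IsAlgSpace (pullback f h) :=
    isAlgSpace_of_isPullback sqX hY.diag hX (IsAlgSpace.yon_obj Z)
  obtain ⟨T, c, κ, _, O, o, hT, hcf, hcs, hOa, hoi, hsurj, hl⟩ := Cover.exists_refinement hg hZ h
  have sqT := IsPullback.of_hasPullback (pullback.snd f h) ((yon S).map c)
  have hpieces : ∀ j, ∃ (V : Over S) (v : V ⟶ O j)
      (fst : (yon S).obj V ⟶ pullback (pullback.snd f h) ((yon S).map c)),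
      IsPullback fst ((yon S).map v) (pullback.snd (pullback.snd f h) ((yon S).map c))
        ((yon S).map (o j)) ∧ P v.left := by
    intro j
    obtain ⟨i, l, hli⟩ := hl j
    obtain ⟨V, v, a, sqV, hv⟩ := repWith_exists (hp i) l
    have sq1 := sqV.paste_horiz (sqi i)
    rw [hli] at sq1
    rw [← Category.assoc ((yon S).map (o j))] at sq1
    have sq2 := IsPullback.of_right' sq1 sqX
    exact ⟨V, v, _, IsPullback.of_right' sq2 sqT, hv⟩
  choose V v a sqV hv using hpieces
  obtain ⟨b, G, t, ht, hpb, sqb⟩ := Lib.AlgSpMor.RepDescent.exists_isPullback_sigma sqV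
  have hG : P G.left := IsZariskiLocalAtTarget.of_openCover
    (sigmaOpenCover fun j ↦ (O j).left) fun j ↦ by
      show P (pullback.snd G.left (sigmaOverι O j).left)
      rw [← (IsPullback.of_hasPullback _ _).isoIsPullback_hom_snd _ _ (hpb j)]
      exact (MorphismProperty.cancel_left_of_respectsIso P _ _).2 (hv j)
  have hTO : IsAffine (sigmaOver O).left := by
    have := hOa
    exact inferInstanceAs (IsAffine (∐ fun j ↦ (O j).left))
  have := hT; have := hZ; have := hcf; have := hcs
  have : Flat t.left := by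
    refine (IsZariskiLocalAtSource.iff_of_openCover (P := @Flat)
      (sigmaOpenCover fun j ↦ (O j).left)).2 fun j ↦ ?_
    show Flat ((sigmaOverι O j).left ≫ t.left)
    rw [← Over.comp_left, ht]
    have := hoi j
    infer_instance
  have : Surjective t.left := ⟨fun x ↦ by
    obtain ⟨j, y, rfl⟩ := hsurj x
    refine ⟨(sigmaOverι O j).left y, ?_⟩
    rw [← Scheme.Hom.comp_apply, ← Over.comp_left, ht]⟩
  have sqt := sqb.paste_horiz sqT
  rw [← Functor.map_comp] at sqt
  have : Scheme.IsQuasiAffine (sigmaOver V).left :=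
    Lib.AlgSpMor.QuasiAffineDescent.isQuasiAffine_of_qaHom (hP _ hG)
  have : Flat (t ≫ c).left := inferInstanceAs (Flat (t.left ≫ c.left))
  have : Surjective (t ≫ c).left := inferInstanceAs (Surjective (t.left ≫ c.left))
  obtain ⟨W, w, e, k, hew, sqW⟩ := exists_descended hXZ sqt
  refine ⟨W, w, e.inv ≫ pullback.fst f h, IsPullback.of_iso sqX e (Iso.refl _) (Iso.refl _)
    (Iso.refl _) (by simp) (by simp [hew]) (by simp) (by simp), ?_⟩
  exact MorphismProperty.of_isPullback_of_descendsAlong (P := P)
    (Q := (@Surjective ⊓ @Flat ⊓ @QuasiCompact : MorphismProperty Scheme.{u})) sqW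
    ⟨⟨inferInstance, inferInstance⟩, inferInstance⟩ hG

end Groth.Agent.Lib.AlgSpFpqc.Affine
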