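import Mathlib.AlgebraicGeometry.Morphisms.FlatMono
import Mathlib.AlgebraicGeometry.Morphisms.Etale
import Groth.Agent.Lib.Flat55.FlatDescend
import Groth.Agent.Lib.AlgSpMor.Cancel
import Groth.Agent.H14.FppfDesc.Scheme

/-!
# Etale morphisms descend along fppf coverings of the source
-/

set_option autoImplicit false
set_option backward.isDefEq.respectTransparency false
set_option backward.isDefEq.respectTransparency.types false

universe u

open CategoryTheory CategoryTheory.Limits AlgebraicGeometry

namespace Groth.Agent.Lib.AlgSpFpqc.SourceEtale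

theorem etale_of_comp {X' X Y : Scheme.{u}} (e : X' ⟶ X) (k : X ⟶ Y) [Surjective e] [Flat e]
    [LocallyOfFinitePresentation e] (h : Etale (e ≫ k)) : Etale k := by
  have : LocallyOfFinitePresentation k :=
    H14.FppfDesc.Scheme.locallyOfFinitePresentation_of_comp e k inferInstance
  have : Flat k := Flat55.FlatDescend.flat_of_comp e k
  have heq : e ≫ pullback.diagonal k = pullback.diagonal (e ≫ k) ≫
      pullback.map (e ≫ k) (e ≫ k) k k e e (𝟙 Y) (by simp) (by simp) := by
    apply pullback.hom_ext <;> simp
  have hmap : Flat (pullback.map (e ≫ k) (e ≫ k) k k e e (𝟙 Y) (by simp) (by simp)) :=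
    MorphismProperty.pullback_map (P := @Flat) ‹_› ‹_› (by simp) (by simp)
  have : Flat (e ≫ pullback.diagonal k) := by
    rw [heq]
    exact inferInstanceAs (Flat (_ ≫ _))
  have : Flat (pullback.diagonal k) := Flat55.FlatDescend.flat_of_comp e _
  have : LocallyOfFinitePresentation (pullback.diagonal k) :=
    Lib.AlgSpMor.Cancel.locallyOfFinitePresentation_of_comp (g := pullback.fst k k)
      (by rw [pullback.diagonal_fst]; infer_instance) inferInstance
  have : IsOpenImmersion (pullback.diagonal k) := IsOpenImmersion.of_flat_of_mono _
  have : FormallyUnramified k := inferInstance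
  exact Etale.of_formallyUnramified_of_flat k

end Groth.Agent.Lib.AlgSpFpqc.SourceEtale
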