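import Groth.Agent.Lib.AlgSpFpqc.Source
import Groth.Agent.Lib.AlgSpRed.Stalk
import Groth.Agent.H56.GeomDescent
import Groth.Agent.Lib.Regular.Descent
import Groth.Agent.S0116
import Groth.Agent.S4991
import Groth.Agent.S9841

/-!
# Descent of properties of algebraic spaces along flat surjective morphisms
-/

set_option autoImplicit false
set_option backward.isDefEq.respectTransparency false
set_option backward.isDefEq.respectTransparency.types false

universe u

open CategoryTheory CategoryTheory.Limits AlgebraicGeometry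

namespace Groth.Agent.Lib.AlgSpFpqc.DescendSp

open AlgSp (Sp yon IsAlgSpace RepWith LocP Points EtaleLocally)
open Groth.Agent.Lib.AlgSpace

variable {S : Scheme.{u}}

/-- A property of schemes which ascends along etale morphisms and descends along morphisms with `L`
which are surjective, descends along surjective morphisms of algebraic spaces with `L`. -/
theorem etaleLocally_of_surjective {L : MorphismProperty Scheme.{u}} {P : Scheme.{u} → Prop}
    (hL : ∀ ⦃A B C : Scheme.{u}⦄ (f : A ⟶ B) (g : B ⟶ C), Etale f → L g → L (f ≫ g))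
    (hasc : ∀ ⦃A B : Scheme.{u}⦄ (f : A ⟶ B), Etale f → P B → P A)
    (hdesc : ∀ ⦃A B : Scheme.{u}⦄ (f : A ⟶ B), L f → Surjective f → P A → P B)
    {X Y : Sp S} (hX : IsAlgSpace X) (hY : IsAlgSpace Y) {f : X ⟶ Y} (hf : LocP L f)
    (hs : Function.Surjective (Points.map f)) (h : EtaleLocally P X) : EtaleLocally P Y := by
  obtain ⟨U₀, a, ha, has, hU₀⟩ := h
  obtain ⟨V, b, hb, hbs⟩ := hY.atlas
  obtain ⟨W, e, c, hc, hce, hsurj, -⟩ := Source.exists_pieces (fun _ : PUnit.{u + 1} ↦ f) hY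
    (fun _ ↦ hX) hb
  obtain ⟨W', p, q, sq⟩ := exists_isPullback_yon hX.diag a (c ⟨⟩)
  have : Etale p.left := repWith_property (hc ⟨⟩) sq.flip
  have : Etale q.left := repWith_property ha sq
  have : Surjective q.left := repWith_property has sq
  refine ⟨V, b, hb, hbs, hdesc (q.left ≫ (e ⟨⟩).left) (hL _ _ inferInstance
    (hf (c ⟨⟩) b (e ⟨⟩) (hc ⟨⟩) hb (hce ⟨⟩))) ⟨?_⟩ (hasc p.left inferInstance hU₀)⟩
  intro v
  obtain ⟨x, hx⟩ := hs (Points.ofPt b v)
  obtain ⟨w, rfl⟩ := hsurj ⟨⟩ x v hx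
  obtain ⟨w', rfl⟩ := q.left.surjective w
  exact ⟨w', Scheme.Hom.comp_apply _ _ _⟩

theorem isReduced_of_smooth {A B : Scheme.{u}} (g : A ⟶ B) [hg : Smooth g] [IsReduced B] :
    IsReduced A := by
  let X : ULift.{u} Bool → Scheme.{u} := fun b ↦ if b.down then A else B
  let f : ∀ b, X b ⟶ B := fun b ↦ match b with
    | ⟨true⟩ => g
    | ⟨false⟩ => 𝟙 B
  have hmem : Presieve.ofArrows X f ∈ Scheme.precoverage @Smooth B := by
    rw [Scheme.ofArrows_mem_precoverage_iff]
    exact ⟨fun x ↦ ⟨⟨false⟩, x, rfl⟩, fun b ↦ match b with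
      | ⟨true⟩ => hg
      | ⟨false⟩ => (inferInstance : Smooth (𝟙 B))⟩
  exact (Groth.Agent.S9841.result f hmem).1 ‹_› ⟨true⟩

theorem isReducedSp_of_flat_surjective {X Y : Sp S} (hX : IsAlgSpace X) (hY : IsAlgSpace Y)
    {f : X ⟶ Y} (hf : LocP @Flat f) (hs : Function.Surjective (Points.map f))
    (h : AlgSp.IsReducedSp X) : AlgSp.IsReducedSp Y :=
  etaleLocally_of_surjective (L := @Flat) (fun _ _ _ f g (_ : Etale f) (_ : Flat g) ↦ inferInstance)
    (fun _ _ f (_ : Etale f) (_ : IsReduced _) ↦ isReduced_of_smooth f)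
    (fun _ _ f (_ : Flat f) (_ : Surjective f) (_ : IsReduced _) ↦
      Groth.Agent.H56.GeomDescent.isReduced_of_flat_surjective f) hX hY hf hs h

theorem isReducedSp_of_smooth {X Y : Sp S} (hX : IsAlgSpace X) (hY : IsAlgSpace Y)
    {f : X ⟶ Y} (hf : LocP @Smooth f) (h : AlgSp.IsReducedSp Y) : AlgSp.IsReducedSp X := by
  obtain ⟨U, V, a, b, k, ha, has, hb, -, w⟩ := Lib.AlgSpMor.LocP.exists_chart hX hY f
  have : IsReduced V.left := Lib.AlgSpRed.Stalk.isReduced_chart hY.diag h hb
  have : Smooth k.left := hf a b k ha hb w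
  exact ⟨U, a, ha, has, isReduced_of_smooth k.left⟩

/-- Flat and locally of finite presentation. -/
abbrev Fppf : MorphismProperty Scheme.{u} := @Flat ⊓ @LocallyOfFinitePresentation

theorem isLocNoethSp_of_fppf_surjective {X Y : Sp S} (hX : IsAlgSpace X) (hY : IsAlgSpace Y)
    {f : X ⟶ Y} (hf : LocP Fppf f) (hs : Function.Surjective (Points.map f))
    (h : AlgSp.IsLocNoethSp X) : AlgSp.IsLocNoethSp Y :=
  etaleLocally_of_surjective (L := Fppf)
    (fun _ _ _ f g (_ : Etale f) hg ↦ have : Flat g := hg.1; have : LocallyOfFinitePresentation g := hg.2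
      ⟨inferInstance, inferInstance⟩)
    (fun _ _ f (_ : Etale f) (_ : IsLocallyNoetherian _) ↦ LocallyOfFiniteType.isLocallyNoetherian f)
    (fun _ _ f hf (_ : Surjective f) (_ : IsLocallyNoetherian _) ↦
      have : Flat f := hf.1; have : LocallyOfFinitePresentation f := hf.2
      Groth.Agent.S0116.result f) hX hY hf hs h

theorem isRegular_of_flat_surjective {A B : Scheme.{u}} (f : A ⟶ B) [Flat f]
    [IsLocallyNoetherian B] [Surjective f]
    (h : ∀ a : ↥A, IsRegularLocalRing ↥(A.presheaf.stalk a)) (y : ↥B) :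
    IsRegularLocalRing ↥(B.presheaf.stalk y) := by
  obtain ⟨x, rfl⟩ := f.surjective y
  have := h x
  letI : Algebra (B.presheaf.stalk (f x)) (A.presheaf.stalk x) := (f.stalkMap x).hom.toAlgebra
  have : Module.Flat (B.presheaf.stalk (f x)) (A.presheaf.stalk x) := Flat.stalkMap f x
  have : IsLocalHom (algebraMap (B.presheaf.stalk (f x)) (A.presheaf.stalk x)) :=
    inferInstanceAs (IsLocalHom (f.stalkMap x).hom)
  exact Groth.Agent.Lib.Regular.Descent.isRegularLocalRing_of_flat (A.presheaf.stalk x)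

theorem regular_of_fppf_surjective {X Y : Sp S} (hX : IsAlgSpace X) (hY : IsAlgSpace Y)
    {f : X ⟶ Y} (hf : LocP Fppf f) (hs : Function.Surjective (Points.map f))
    (h : EtaleLocally (fun U ↦ IsLocallyNoetherian U ∧
      ∀ u : ↥U, IsRegularLocalRing ↥(U.presheaf.stalk u)) X) :
    EtaleLocally (fun U ↦ IsLocallyNoetherian U ∧
      ∀ u : ↥U, IsRegularLocalRing ↥(U.presheaf.stalk u)) Y :=
  etaleLocally_of_surjective (L := Fppf)
    (fun _ _ _ f g (_ : Etale f) hg ↦ have : Flat g := hg.1; have : LocallyOfFinitePresentation g := hg.2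
      ⟨inferInstance, inferInstance⟩)
    (fun _ _ f (_ : Etale f) ⟨hn, hr⟩ ↦ ⟨LocallyOfFiniteType.isLocallyNoetherian f, fun u ↦
      (Groth.Agent.S4991.result f u ⟨⊤, trivial, inferInstance⟩).2 (hr _)⟩)
    (fun _ _ f hf (_ : Surjective f) ⟨hn, hr⟩ ↦
      have : Flat f := hf.1; have : LocallyOfFinitePresentation f := hf.2
      have := Groth.Agent.S0116.result f
      ⟨this, isRegular_of_flat_surjective f hr⟩) hX hY hf hs h

end Groth.Agent.Lib.AlgSpFpqc.DescendSp
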