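import Groth.Agent.Lib.AlgSpFpqc.SourceClasses
import Groth.Agent.Lib.AlgSpFpqc.SourceEtale
import Groth.Agent.Lib.AlgSpMor.UnivOpen
import Groth.Agent.Lib.AlgSpMor.Topo

/-!
# fppf coverings of algebraic spaces: openness and descent along them
-/

set_option autoImplicit false
set_option backward.isDefEq.respectTransparency false
set_option backward.isDefEq.respectTransparency.types false

universe u

open CategoryTheory CategoryTheory.Limits AlgebraicGeometry

namespace Groth.Agent.Lib.AlgSpFpqc.Fppf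

open AlgSp (Sp yon IsAlgSpace RepWith LocP Points)
open Groth.Agent.Lib.AlgSpace

variable {S : Scheme.{u}}

theorem etaleLocalST : SourceDescent.Scheme.EtaleLocalST
    ((@Flat : MorphismProperty Scheme.{u}) ⊓ @LocallyOfFinitePresentation) :=
  SourceDescent.Scheme.inf SourceDescent.Scheme.flat SourceDescent.Scheme.locallyOfFinitePresentation

/-- A flat morphism locally of finite presentation is universally open. -/
theorem isUnivOpenMor {X Y : Sp S} (hX : IsAlgSpace X) (hY : IsAlgSpace Y) {f : X ⟶ Y}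
    (hfl : LocP @Flat f) (hfp : LocP @LocallyOfFinitePresentation f) : AlgSp.IsUnivOpenMor f := by
  obtain ⟨U, a, ha, has⟩ := hX.atlas
  refine Lib.AlgSpMor.UnivOpen.isUnivOpenMor_of_precomp a (surjective_map has) ?_
  have h := Lib.AlgSpMor.LocP.repWith_of_locP etaleLocalST hY (representable_from_yon hY.diag _)
    (Lib.AlgSpMor.LocP.locP_comp etaleLocalST (IsAlgSpace.yon_obj U) hX hY
      (Lib.AlgSpMor.LocP.locP_of_repWith etaleLocalST
        (repWith_mono ha fun A B g (_ : Etale g) ↦ ⟨inferInstance, inferInstance⟩))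
      (Source.locP_inf.2 ⟨hfl, hfp⟩))
  exact repWith_mono h fun A B g hg ↦
    have : Flat g := hg.1
    have : LocallyOfFinitePresentation g := hg.2
    (inferInstance : UniversallyOpen g)

theorem isOpenMap {X Y : Sp S} (hX : IsAlgSpace X) (hY : IsAlgSpace Y) {f : X ⟶ Y}
    (hfl : LocP @Flat f) (hfp : LocP @LocallyOfFinitePresentation f) :
    IsOpenMap (Points.map f) :=
  isUnivOpenMor hX hY hfl hfp hY (𝟙 Y) (𝟙 X) f IsPullback.of_id_fst

theorem isLocalOnSource_open :
    AlgSp.IsLocalOnSource (AlgSp.IsFppfCover (S := S)) AlgSp.IsOpenMor := by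
  intro ι X Xi g hX hXi hg Y f hY
  refine ⟨fun hf i ↦ ?_, fun h W hW ↦ ?_⟩
  · show IsOpenMap (Points.map (g i ≫ f))
    rw [show Points.map (g i ≫ f) = Points.map f ∘ Points.map (g i) from funext fun x ↦
      Points.map_comp (g i) f x]
    exact hf.comp (isOpenMap (hXi i) hX (hg.1 i).1 (hg.1 i).2)
  · have e : Points.map f '' W =
        ⋃ i, Points.map (g i ≫ f) '' (Points.map (g i) ⁻¹' W) := by
      ext y
      simp only [Set.mem_image, Set.mem_iUnion, Set.mem_preimage, Points.map_comp]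
      refine ⟨fun ⟨x, hx, hy⟩ ↦ ?_, fun ⟨i, z, hz, hy⟩ ↦ ⟨_, hz, hy⟩⟩
      obtain ⟨i, z, rfl⟩ := hg.2 x
      exact ⟨i, z, hx, hy⟩
    rw [e]
    exact isOpen_iUnion fun i ↦ h i _ (hW.preimage (Points.continuous_map _))

theorem isLocalOnSource_univOpen :
    AlgSp.IsLocalOnSource (AlgSp.IsFppfCover (S := S)) AlgSp.IsUnivOpenMor := by
  intro ι X Xi g hX hXi hg Y f hY
  refine ⟨fun hf i Z Z' hZ b fst snd sq ↦ ?_, fun h Z Z' hZ b fst snd sq ↦ ?_⟩
  · have sqZ := IsPullback.of_hasPullback f b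
    have hP : IsAlgSpace (pullback f b) := isAlgSpace_of_isPullback sqZ hY.diag hX hZ
    let m : Z' ⟶ pullback f b := pullback.lift (fst ≫ g i) snd (by rw [Category.assoc, sq.w])
    have sq1 : IsPullback fst m (g i) (pullback.fst f b) :=
      IsPullback.of_bot (by simpa [m] using sq) (by simp [m]) sqZ
    show IsOpenMap (Points.map snd)
    rw [show Points.map snd = Points.map (pullback.snd f b) ∘ Points.map m from funext fun x ↦ by
      rw [Function.comp_apply, ← Points.map_comp]; simp [m]]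
    exact (show IsOpenMap (Points.map (pullback.snd f b)) from hf hZ b _ _ sqZ).comp
      (isUnivOpenMor (hXi i) hX (hg.1 i).1 (hg.1 i).2 hP _ _ _ sq1)
  · intro W hW
    have hP : IsAlgSpace Z' := isAlgSpace_of_isPullback sq hY.diag hX hZ
    have sqi : ∀ i, IsPullback (pullback.fst (g i) fst) (pullback.snd (g i) fst ≫ snd) (g i ≫ f) b :=
      fun i ↦ (IsPullback.of_hasPullback (g i) fst).paste_vert sq
    have e : Points.map snd '' W = ⋃ i, Points.map (pullback.snd (g i) fst ≫ snd) ''
        (Points.map (pullback.snd (g i) fst) ⁻¹' W) := by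
      ext y
      simp only [Set.mem_image, Set.mem_iUnion, Set.mem_preimage, Points.map_comp]
      refine ⟨fun ⟨x, hx, hy⟩ ↦ ?_, fun ⟨i, z, hz, hy⟩ ↦ ⟨_, hz, hy⟩⟩
      obtain ⟨i, z, hz⟩ := hg.2 (Points.map fst x)
      obtain ⟨z', -, rfl⟩ :=
        exists_of_isPullback (IsPullback.of_hasPullback (g i) fst) z x hz
      exact ⟨i, z', hx, hy⟩
    rw [e]
    exact isOpen_iUnion fun i ↦ (h i hZ b _ _ (sqi i)) _ (hW.preimage (Points.continuous_map _))

/-- Descent of `LocP P` along a surjective, flat morphism locally of finite presentation. -/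
theorem locP_of_comp {P : MorphismProperty Scheme.{u}} [IsZariskiLocalAtSource P]
    (hdesc : ∀ {A B C : Scheme.{u}} (e : A ⟶ B) (k : B ⟶ C), Surjective e → Flat e →
      LocallyOfFinitePresentation e → P (e ≫ k) → P k)
    {X Y B : Sp S} (hX : IsAlgSpace X) (hY : IsAlgSpace Y) {f : X ⟶ Y} {q : Y ⟶ B}
    (hs : Function.Surjective (Points.map f)) (hfl : LocP @Flat f)
    (hfp : LocP @LocallyOfFinitePresentation f) (h : LocP P (f ≫ q)) : LocP P q :=
  Source.locP_of_cover (L := (@Flat : MorphismProperty Scheme.{u}) ⊓ @LocallyOfFinitePresentation)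
    (g := fun _ : PUnit.{u + 1} ↦ f)
    (SourceClasses.desc_of_single fun e k he hsu hp ↦ hdesc e k hsu he.1 he.2 hp) hY
    (fun _ ↦ hX) (fun _ ↦ Source.locP_inf.2 ⟨hfl, hfp⟩) (fun y ↦ ⟨⟨⟩, hs y⟩) fun _ ↦ h

end Groth.Agent.Lib.AlgSpFpqc.Fppf
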