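import Groth.Prelude.Def_AlgSpCov
import Groth.Agent.Lib.AlgSpace.OpenSubExists
import Groth.Agent.Lib.AlgSpace.OpenSub
import Groth.Agent.Lib.AlgSpMor.LocP

/-!
# Zariski coverings of algebraic spaces
-/

set_option autoImplicit false
set_option backward.isDefEq.respectTransparency false
set_option backward.isDefEq.respectTransparency.types false

universe u

open CategoryTheory CategoryTheory.Limits AlgebraicGeometry

namespace Groth.Agent.Lib.AlgSpFpqc.AffineCover

open AlgSp (Sp yon IsAlgSpace RepWith Points)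
open Groth.Agent.Lib.AlgSpace

variable {S : Scheme.{u}}

theorem isZarCover_iff {X : Sp S} (hX : IsAlgSpace X) {ι : Type u} (Xi : ι → Sp S)
    (j : ∀ i, Xi i ⟶ X) (hj : ∀ i, RepWith @IsOpenImmersion (j i)) :
    AlgSp.IsZarCover Xi j ↔ ∀ (T : Over S) (g : (yon S).obj T ⟶ X) (t : ↥T.left),
      ∃ (i : ι) (P : Over S) (fst : (yon S).obj P ⟶ Xi i) (snd : P ⟶ T),
        IsPullback fst ((yon S).map snd) (j i) g ∧ t ∈ Set.range snd.left := by
  constructor
  · intro h T g t
    obtain ⟨i, y, hy⟩ := h.2 (Points.map g (Points.ofScheme T t))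
    have sq := (hj i).rep.isPullback g
    obtain ⟨z, -, hz⟩ := exists_of_isPullback sq y (Points.ofScheme T t) hy
    obtain ⟨w, rfl⟩ := (Points.schemeEquiv _).surjective z
    refine ⟨i, _, (hj i).rep.fst g, (hj i).rep.snd g, sq, w, (Points.schemeEquiv T).injective ?_⟩
    show Points.ofScheme T _ = Points.ofScheme T t
    rw [← hz]
    show _ = Points.map _ (Points.ofScheme _ w)
    rw [← Points.ofPt_eq_map_ofScheme, ← Category.comp_id ((yon S).map _), ofPt_yon_map_comp]
  · intro h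
    refine ⟨hj, fun x ↦ ?_⟩
    obtain ⟨U, a, ha, has⟩ := hX.atlas
    obtain ⟨u, rfl⟩ := surjective_ofPt has x
    obtain ⟨i, P, fst, snd, sq, p, rfl⟩ := h U a u
    refine ⟨i, Points.ofPt fst p, ?_⟩
    rw [Points.map_ofPt, sq.w, ofPt_yon_map_comp]

theorem exists_affine_charts {X : Sp S} (hX : IsAlgSpace X) :
    ∃ (ι : Type u) (Xi : ι → Sp S) (j : ∀ i, Xi i ⟶ X),
      (∀ i, IsAlgSpace (Xi i)) ∧ AlgSp.IsZarCover Xi j ∧
        ∀ i, ∃ (U : Over S) (p : (yon S).obj U ⟶ Xi i), IsAffine U.left ∧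
          RepWith @Etale p ∧ RepWith @Surjective p ∧
          ∃ W : S.Opens, IsAffineOpen W ∧ ∀ v : ↥U.left, U.hom v ∈ W := by
  obtain ⟨U, a, ha, has⟩ := hX.atlas
  choose W hW hWu using fun u : ↥U.left ↦
    (exists_isAffineOpen_mem_and_subset (X := S) (x := U.hom u) (U := ⊤) trivial)
  choose O hO hOu hOW using fun u : ↥U.left ↦
    (exists_isAffineOpen_mem_and_subset (X := U.left) (x := u) (U := U.hom ⁻¹ᵁ W u) (hWu u).1)
  let o : ∀ u, Over.mk ((O u).ι ≫ U.hom) ⟶ U := fun u ↦ Over.homMk (O u).ι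
  let p : ∀ u, (yon S).obj (Over.mk ((O u).ι ≫ U.hom)) ⟶ X := fun u ↦ (yon S).map (o u) ≫ a
  have hp : ∀ u, RepWith @Etale (p u) := fun u ↦
    have : Etale (o u).left := inferInstanceAs (Etale (O u).ι)
    AlgSpMor.LocP.repWith_etale_comp (o u) ha
  have hopen : ∀ u, IsOpen (Set.range (Points.ofPt (p u))) := fun u ↦ by
    rw [show Points.ofPt (p u) = Points.ofPt a ∘ (o u).left from funext fun z ↦
      ofPt_yon_map_comp (o u) a z, Set.range_comp]
    refine (isOpenQuotientMap_ofPt ha has).isOpenMap _ ?_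
    exact (O u).ι.isOpenEmbedding.isOpen_range
  choose F j hF hj hr using fun u ↦ exists_open_subspace hX (hopen u)
  choose l hl using fun u ↦ exists_lift_yon_of_range_subset (hj u) (p u) (hr u).ge
  refine ⟨↥U.left, F, j, hF, ⟨hj, fun x ↦ ?_⟩, fun u ↦ ?_⟩
  · obtain ⟨u, rfl⟩ := surjective_ofPt has x
    refine ⟨u, ?_⟩
    rw [hr u]
    exact ⟨⟨u, hOu u⟩, ofPt_yon_map_comp (o u) a _⟩
  · have : Mono (j u) :=
      mono_of_repWith (fun _ _ k (_ : IsOpenImmersion k) ↦ (inferInstance : Mono k)) (hj u)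
    have sq : IsPullback (𝟙 _) (l u) (p u) (j u) := by
      rw [← hl u]
      exact isPullback_of_yon (by rw [Category.id_comp]) (fun T z z' h _ ↦ by simpa using h)
        fun T z z' h ↦ ⟨z, Category.comp_id _, by rw [← cancel_mono (j u), Category.assoc, h]⟩
    have hle : RepWith @Etale (l u) := repWith_baseChange sq (hp u)
    refine ⟨_, l u, hO u, hle, repWith_surjective_of_points hle.rep fun y ↦ ?_, W u, hW u,
      fun v ↦ hOW u v.2⟩
    obtain ⟨v, hv⟩ := (hr u).subset ⟨y, rfl⟩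
    refine ⟨Points.ofScheme _ v, injective_map_of_mono (j u) ?_⟩
    rw [← Points.ofPt_eq_map_ofScheme, Points.map_ofPt, hl u, hv]

end Groth.Agent.Lib.AlgSpFpqc.AffineCover
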