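import Mathlib.CategoryTheory.Sites.LeftExact
import Mathlib.CategoryTheory.Extensive
import Groth.Agent.Lib.AlgSpFpqc.Cover

/-!
# The general criterion for locality on the base for fpqc coverings
-/

set_option autoImplicit false
set_option backward.isDefEq.respectTransparency false
set_option backward.isDefEq.respectTransparency.types false

universe u

open CategoryTheory CategoryTheory.Limits AlgebraicGeometry

namespace Groth.Agent.Lib.AlgSpFpqc.Criterion

open AlgSp (Sp yon IsAlgSpace)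
open Groth.Agent.Lib.AlgSpace Groth.Agent.Lib.AlgSpFpqc.Cover

variable {S : Scheme.{u}}

/-- The base change of a morphism to a finite coproduct of schemes is the coproduct of its
restrictions. -/
theorem exists_cofan {κ : Type u} [Finite κ] (O : κ → Over S) {X : Sp S}
    (f : X ⟶ (yon S).obj (sigmaOver O)) :
    ∃ (cY : IsColimit (Cofan.mk ((yon S).obj (sigmaOver O)) fun j ↦ (yon S).map (sigmaOverι O j))),
      Nonempty (IsColimit (Cofan.mk X fun j ↦ pullback.fst f ((yon S).map (sigmaOverι O j)))) := by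
  have hY : IsColimit
      (Cofan.mk ((yon S).obj (sigmaOver O)) fun j ↦ (yon S).map (sigmaOverι O j)) :=
    Cofan.IsColimit.mk _ (fun t ↦ (existsUnique_sigmaOver_desc O t.inj).choose)
      (fun t j ↦ (existsUnique_sigmaOver_desc O t.inj).choose_spec.1 j)
      (fun t m hm ↦ (existsUnique_sigmaOver_desc O t.inj).choose_spec.2 m hm)
  refine ⟨hY, FinitaryPreExtensive.isUniversal_finiteCoproducts hY
    (Cofan.mk X fun j ↦ pullback.fst f ((yon S).map (sigmaOverι O j)))
    (Discrete.natTrans fun j ↦ pullback.snd f ((yon S).map (sigmaOverι O j.as))) f ?_ ?_ ?_⟩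
  · apply NatTrans.ext
    funext ⟨j⟩
    exact (pullback.condition (f := f) (g := (yon S).map (sigmaOverι O j))).symm
  · exact NatTrans.Equifibered.of_discrete _
  · exact fun j ↦ IsPullback.of_hasPullback f ((yon S).map (sigmaOverι O j.as))

/-- The criterion. -/
theorem isLocalOnBase (P : MorphismProperty (Sp S))
    (h1 : ∀ ⦃ι : Type u⦄ [Finite ι] (Xi Yi : ι → Sp S) (fi : ∀ i, Xi i ⟶ Yi i)
      (cX : Cofan Xi) (cY : Cofan Yi) (_ : IsColimit cX) (_ : IsColimit cY) (m : cX.pt ⟶ cY.pt),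
      (∀ i, IsAlgSpace (Xi i)) → (∀ i, IsAlgSpace (Yi i)) →
      IsAlgSpace cX.pt → IsAlgSpace cY.pt →
      (∀ i, cX.inj i ≫ m = fi i ≫ cY.inj i) → (∀ i, P (fi i)) → P m)
    (h2 : ∀ ⦃X Y : Sp S⦄, IsAlgSpace X → IsAlgSpace Y → ∀ (f : X ⟶ Y),
      P f ↔ ∀ (Z : Over S), IsAffine Z.left → ∀ (g : (yon S).obj Z ⟶ Y) (W : Sp S)
        (fst : W ⟶ X) (snd : W ⟶ (yon S).obj Z), IsAlgSpace W → IsPullback fst snd f g → P snd)
    (h3 : AffineDesc P) : AlgSp.IsLocalOnBase (AlgSp.IsFpqcCover (S := S)) P := by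
  refine Cover.isLocalOnBase P (fun X Y Y' X' hX hY hY' hX' f g fst snd sq hf ↦
      (h2 hX' hY' snd).2 fun Z hZ k W a b hW sqW ↦
        (h2 hX hY f).1 hf Z hZ (k ≫ g) W (a ≫ fst) b hW (sqW.paste_horiz sq))
    (fun X Y hX hY f h ↦ (h2 hX hY f).2 h) (fun T hT κ _ O o hO ho hsurj X hX f h ↦ ?_) h3
  let t : sigmaOver O ⟶ T := Over.homMk (Sigma.desc fun j ↦ (o j).left)
    (Sigma.hom_ext _ _ fun j ↦ by simp)
  have ht : ∀ j, sigmaOverι O j ≫ t = o j := fun j ↦ Over.OverMorphism.ext (by simp [t])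
  have hTO : IsAffine (sigmaOver O).left := by
    have := hO
    exact inferInstanceAs (IsAffine (∐ fun j ↦ (O j).left))
  have sq := IsPullback.of_hasPullback f ((yon S).map t)
  have hXO : IsAlgSpace (pullback f ((yon S).map t)) :=
    isAlgSpace_of_isPullback sq (IsAlgSpace.yon_obj T).diag hX (IsAlgSpace.yon_obj (sigmaOver O))
  refine h3 t hT hTO (IsZariskiLocalAtSource.sigmaDesc (P := @Flat) fun j ↦
      have := ho j; inferInstance) ⟨fun x ↦ ?_⟩ f _ _ hX hXO sq ?_
  · obtain ⟨j, y, rfl⟩ := hsurj x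
    refine ⟨(sigmaOverι O j).left y, ?_⟩
    rw [← Scheme.Hom.comp_apply, ← Over.comp_left, ht]
  obtain ⟨hcY, ⟨hcX⟩⟩ := exists_cofan O (pullback.snd f ((yon S).map t))
  have hQ : ∀ j, IsAlgSpace (pullback (pullback.snd f ((yon S).map t))
      ((yon S).map (sigmaOverι O j))) := fun j ↦ isAlgSpace_of_isPullback
    (IsPullback.of_hasPullback _ _) (IsAlgSpace.yon_obj _).diag hXO (IsAlgSpace.yon_obj (O j))
  refine h1 _ _ (fun j ↦ pullback.snd _ _) _ _ hcX hcY _ hQ (fun j ↦ IsAlgSpace.yon_obj (O j)) hXO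
    (IsAlgSpace.yon_obj _) (fun j ↦ pullback.condition) fun j ↦ ?_
  have sq1 := (IsPullback.of_hasPullback (pullback.snd f ((yon S).map t))
    ((yon S).map (sigmaOverι O j))).paste_horiz sq
  rw [← Functor.map_comp, ht] at sq1
  exact h j _ _ _ (hQ j) sq1

end Groth.Agent.Lib.AlgSpFpqc.Criterion
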