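import Groth.Prelude.Def_AlgSpCov
import Groth.Prelude.Def_AlgSpEt
import Groth.Agent.Lib.AlgSpMor.LocP
import Groth.Agent.Lib.AlgStack.Source
import Groth.Agent.Lib.AlgSpace.OpenSub

/-!
# The small etale site inside the big etale site
-/

set_option autoImplicit false
set_option backward.isDefEq.respectTransparency false
set_option backward.isDefEq.respectTransparency.types false

universe u

open CategoryTheory CategoryTheory.Limits AlgebraicGeometry

namespace Groth.Agent.Lib.AlgSpFpqc.EtBigSite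

open AlgSp (Sp yon IsAlgSpace RepWith LocP Points Space IsEtaleMor EtOver)
open Groth.Agent.Lib.AlgSpace

variable {S : Scheme.{u}}

/-- A sieve contains, around every point of every scheme over its target, the composite with an
etale morphism. -/
def etLocalTop (S : Scheme.{u}) : GrothendieckTopology (Space S) where
  sieves T := {R | ∀ (U : Over S) (a : (AlgSp.ofScheme S).obj U ⟶ T) (x : ↥U.left),
    ∃ (V : Over S) (v : V ⟶ U), Etale v.left ∧ x ∈ Set.range v.left ∧
      R ((AlgSp.ofScheme S).map v ≫ a)}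
  top_mem' T U a x := ⟨U, 𝟙 U, by rw [Over.id_left]; infer_instance, ⟨x, rfl⟩, trivial⟩
  pullback_stable' T T' R f h U a x := by
    obtain ⟨V, v, hv, hx, hR⟩ := h U (a ≫ f) x
    exact ⟨V, v, hv, hx, by simpa using hR⟩
  transitive' T R h R' h' U a x := by
    obtain ⟨V, v, hv, ⟨y, rfl⟩, hR⟩ := h U a x
    obtain ⟨W, w, hw, ⟨z, rfl⟩, hR'⟩ := h' hR V (𝟙 _) y
    refine ⟨W, w ≫ v, by rw [Over.comp_left]; infer_instance, ⟨z, by simp⟩, ?_⟩
    simpa using hR'

theorem spacesTop_le : AlgSp.spacesTop S IsEtaleMor ≤ etLocalTop S := by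
  rw [AlgSp.spacesTop, Precoverage.toGrothendieck_le_iff_le_toPrecoverage]
  intro T R hR
  change ∀ (U : Over S) (a : (AlgSp.ofScheme S).obj U ⟶ T) (x : ↥U.left), _
  intro U a x
  obtain ⟨T', g, hg, y, hy⟩ := hR.2 (Points.map a.hom (Points.ofScheme U x))
  have hQ := isAlgSpace_of_isPullback (IsPullback.of_hasPullback g.hom a.hom) T.property.diag
    T'.property (IsAlgSpace.yon_obj U)
  obtain ⟨W, d, hd, hds⟩ := hQ.atlas
  obtain ⟨e, he⟩ := (yon S).map_surjective (d ≫ pullback.snd g.hom a.hom)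
  have hl := Lib.AlgSpMor.LocP.locP_of_isPullback SourceDescent.Scheme.etale T'.property T.property
    (IsAlgSpace.yon_obj U) (IsPullback.of_hasPullback g.hom a.hom)
    ((AlgStack.Source.isEtaleMor_iff T'.property T.property g.hom).1 (hR.1 g hg))
  obtain ⟨z, -, hz⟩ := exists_of_isPullback (IsPullback.of_hasPullback g.hom a.hom) y
    (Points.ofScheme U x) hy
  obtain ⟨w, rfl⟩ := surjective_ofPt hds z
  refine ⟨W, e, hl d (𝟙 _) e hd (AlgSp.repWith_id _ _) (by rw [he, Category.comp_id]),
    ⟨w, (Points.schemeEquiv U).injective ?_⟩,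
    T', ObjectProperty.homMk (d ≫ pullback.fst g.hom a.hom), g, hg, ObjectProperty.hom_ext _ ?_⟩
  · show Points.ofScheme U _ = Points.ofScheme U x
    rw [← hz, Points.map_ofPt, ← he, ← Category.comp_id ((yon S).map e), ofPt_yon_map_comp]
  · change (d ≫ pullback.fst g.hom a.hom) ≫ g.hom = (yon S).map e ≫ a.hom
    rw [Category.assoc, pullback.condition, he, Category.assoc]

/-- The functor from the small etale site of `Y` to the big etale site of `X`. -/
noncomputable abbrev toBig {X Y : Space S} (f : Y ⟶ X) : EtOver Y.obj ⥤ Over X :=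
  EtOver.toEtSpOver Y ⋙ ObjectProperty.ι (fun E : Over Y => IsEtaleMor E.hom.hom) ⋙ Over.map f

theorem isCocontinuous {X Y : Space S} (f : Y ⟶ X) :
    (toBig f).IsCocontinuous (AlgSp.etTop Y.obj) (AlgSp.spacesTopOver IsEtaleMor X) := by
  refine ⟨fun {E R} hR ↦ ?_⟩
  rw [GrothendieckTopology.mem_over_iff] at hR
  choose V v hv hx hV using fun x : ↥E.obj.left.left ↦ spacesTop_le _ hR E.obj.left (𝟙 _) x
  let E' : ↥E.obj.left.left → EtOver Y.obj := fun x ↦
    EtOver.mk ((yon S).map (v x) ≫ E.obj.hom) (by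
      have := hv x
      exact Lib.AlgSpMor.LocP.repWith_etale_comp (v x) E.property)
  let g : ∀ x, E' x ⟶ E := fun x ↦ EtOver.homMk (v x) rfl
  refine GrothendieckTopology.superset_covering _ ?_
    (AlgSp.ofArrows_mem_etTop E' g fun x ↦ ⟨x, hx x⟩)
  rw [Sieve.ofArrows, Sieve.generate_le_iff]
  rintro _ _ ⟨x⟩
  change R ((toBig f).map (g x))
  have hV' := hV x
  rw [Category.comp_id, Sieve.overEquiv_iff] at hV'
  have hw : (AlgSp.ofScheme S).map (v x) ≫ ((toBig f).obj E).hom = ((toBig f).obj (E' x)).hom :=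
    Over.w ((toBig f).map (g x))
  let φ : (toBig f).obj (E' x) ⟶
      Over.mk ((AlgSp.ofScheme S).map (v x) ≫ ((toBig f).obj E).hom) :=
    Over.homMk (𝟙 _) (by
      change 𝟙 _ ≫ (AlgSp.ofScheme S).map (v x) ≫ ((toBig f).obj E).hom = _
      rw [Category.id_comp, hw])
  have h2 := R.downward_closed hV' φ
  convert h2 using 1
  apply Over.OverMorphism.ext
  change (AlgSp.ofScheme S).map (v x) = 𝟙 _ ≫ _
  rw [Category.id_comp]
  rfl

theorem isContinuous {X Y : Space S} (f : Y ⟶ X) :
    (toBig f).IsContinuous (AlgSp.etTop Y.obj) (AlgSp.spacesTopOver IsEtaleMor X) := by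
  refine ⟨fun G ↦ ?_⟩
  have hG := G.property
  rw [isSheaf_iff_isSheaf_of_type] at hG
  rw [AlgSp.etTop, ← Precoverage.toGrothendieck_toCoverage, Presieve.isSheaf_coverage]
  intro E R hR
  have hpres : PreservesLimitsOfShape WalkingCospan (toBig f) :=
    ⟨fun {K} ↦ @preservesLimit_of_iso_diagram _ _ _ _ _ _ _ _ (toBig f) (diagramIsoCospan K).symm
      (preservesLimit_of_preserves_limit_cone
        (EtOver.pullbackIsLimit (K.map WalkingCospan.Hom.inl) (K.map WalkingCospan.Hom.inr))
        ((isLimitMapConePullbackConeEquiv _ _).symm (IsPullback.isLimit (by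
          refine IsPullback.of_map (Over.forget X) (by
            rw [← Functor.map_comp, ← Functor.map_comp, EtOver.pullback_condition]) ?_
          refine IsPullback.of_map (ObjectProperty.ι (C := Sp S) IsAlgSpace) (by
            rw [← Functor.map_comp, ← Functor.map_comp, ← Functor.map_comp, ← Functor.map_comp,
              EtOver.pullback_condition]) ?_
          exact (IsPullback.of_hasPullback _ _).map (yon S)))))⟩
  have : R.HasPairwisePullbacks := ⟨fun _ _ ↦ inferInstance⟩
  rw [Presieve.IsSheafFor.comp_iff_of_preservesPairwisePullbacks, Presieve.isSheafFor_iff_generate]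
  refine hG _ ?_
  rw [GrothendieckTopology.mem_over_iff]
  have hsurj : ∀ x : ↥E.obj.left.left,
      ∃ (E' : EtOver Y.obj) (g : E' ⟶ E), R g ∧ x ∈ Set.range g.hom.left.left := by
    obtain ⟨ι, E', g, rfl⟩ := R.exists_eq_ofArrows
    intro x
    obtain ⟨i, hi⟩ := (AlgSp.ofArrows_mem_etPre_iff E' g).1 hR x
    exact ⟨_, g i, ⟨i⟩, hi⟩
  choose E' g hg hgx using hsurj
  refine GrothendieckTopology.superset_covering _ ?_
    (Precoverage.generate_mem_toGrothendieck ((AlgSp.ofArrows_mem_spacesPre_iff IsEtaleMor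
      (fun x ↦ ((toBig f).obj (E' x)).left) (fun x ↦ ((toBig f).map (g x)).left)).2
      ⟨fun x ↦ ?_, fun p ↦ ?_⟩))
  · rw [Sieve.generate_le_iff]
    rintro _ _ ⟨x⟩
    rw [Sieve.overEquiv_iff]
    refine ⟨(toBig f).obj (E' x), Over.homMk (𝟙 _) (by
      change 𝟙 _ ≫ ((toBig f).obj (E' x)).hom = _
      rw [Category.id_comp]; exact (Over.w ((toBig f).map (g x))).symm), (toBig f).map (g x),
      Presieve.map_map (hg x), ?_⟩
    exact Over.OverMorphism.ext (Category.id_comp _)
  · exact AlgSp.isEtaleMor_of_repWith _ (repWith_etale_yon_map (EtOver.etale_left (g x)))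
  · obtain ⟨t, rfl⟩ := (Points.schemeEquiv E.obj.left).surjective p
    obtain ⟨y, hy⟩ := hgx t
    refine ⟨t, Points.ofScheme _ y, ?_⟩
    show Points.map ((yon S).map (g t).hom.left) (Points.ofScheme _ y) = Points.ofScheme _ t
    rw [← Points.ofPt_eq_map_ofScheme, ← Category.comp_id ((yon S).map _), ofPt_yon_map_comp, hy]

end Groth.Agent.Lib.AlgSpFpqc.EtBigSite
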