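import Groth.Agent.Lib.SmoothLift.Space
import Groth.Agent.Lib.AlgSpFpqc.LocP
import Groth.Agent.S9447

/-!
# Formal smoothness is local on the base for fpqc coverings
-/

set_option autoImplicit false
set_option backward.isDefEq.respectTransparency false
set_option backward.isDefEq.respectTransparency.types false

universe u

open CategoryTheory CategoryTheory.Limits AlgebraicGeometry AlgSp
open Groth.Agent.H54
open scoped TensorProduct

namespace Groth.Agent.Lib.AlgSpFpqc.FormallySmooth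

open Groth.Agent.Lib.SmoothLift

/-- Formally smooth morphisms of schemes. -/
abbrev FS : MorphismProperty Scheme.{u} := @MoreMor.IsFormallySmoothHom

theorem of_etale_surjective_comp {X X' Y : Scheme.{u}} (e : X' ⟶ X) (f : X ⟶ Y) [Etale e]
    [Surjective e] (h : MoreMor.IsFormallySmoothHom (e ≫ f)) : MoreMor.IsFormallySmoothHom f := by
  let g : Over.mk f ⟶ Over.mk (𝟙 Y) := Over.homMk f
  let a : Over.mk (e ≫ f) ⟶ Over.mk f := Over.homMk e
  refine (Formal.isFormallySmoothMor_yon_map_iff g).1 ?_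
  exact Space.formallySmooth_of_chart (U := Over.mk (e ≫ f)) (V := Over.mk (𝟙 Y))
    (a := (yon Y).map a) (b := 𝟙 _) (h := a ≫ g) (IsAlgSpace.yon_obj _) (IsAlgSpace.yon_obj _)
    ((repWith_yon_map_iff _ a).2 ‹Etale e›) ((repWith_yon_map_iff _ a).2 ‹Surjective e›)
    (by
      have : MorphismProperty.ContainsIdentities (@Etale : MorphismProperty Scheme.{u}) :=
        ⟨fun X => inferInstanceAs (Etale (𝟙 X))⟩
      exact repWith_id @Etale _)
    (by rw [Category.comp_id, Functor.map_comp])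
    (show MoreMor.IsFormallySmoothHom (e ≫ f) from h)

instance : (FS.{u}).IsStableUnderBaseChange := ⟨fun sq hf => Formal.baseChange sq hf⟩

theorem etaleLocalST : SourceDescent.Scheme.EtaleLocalST (FS.{u}) where
  comp f g hf hg := FormalEtale.comp_smooth f g hf hg
  baseChange := inferInstance
  etale e _ := Formal.isFormallySmoothHom_of_etale e
  descends e f _ _ h := of_etale_surjective_comp e f h

instance : (FS.{u}).RespectsIso := MorphismProperty.IsStableUnderBaseChange.respectsIso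

theorem isZariskiLocalAtTarget : IsZariskiLocalAtTarget (FS.{u}) := by
  refine IsZariskiLocalAtTarget.mk'
    (fun f U hf => Formal.baseChange (isPullback_morphismRestrict f U).flip hf)
    fun {X Y} f {ι} U hU hf => ?_
  let g : Over.mk f ⟶ Over.mk (𝟙 Y) := Over.homMk f
  refine (Formal.isFormallySmoothMor_yon_map_iff g).1
    (Formal.isFormallySmoothMor_of_rep (AlgSp.representable_yon_map g) fun T b hT => ?_)
  have hr := AlgSp.representable_yon_map g
  obtain ⟨b', rfl⟩ := (yon Y).map_surjective b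
  have sqy := hr.isPullback ((yon Y).map b')
  obtain ⟨p, hp⟩ := (yon Y).map_surjective (hr.fst ((yon Y).map b'))
  rw [← hp] at sqy
  set q := (hr.snd ((yon Y).map b')).left with hq
  have sq : IsPullback p.left q f b'.left :=
    (Groth.Agent.Lib.AlgSpace.isPullback_of_yon_map sqy).map (Over.forget Y)
  intro x
  obtain ⟨i, hi⟩ := TopologicalSpace.Opens.mem_iSup.1
    (show f (p.left x) ∈ iSup U by rw [hU]; trivial)
  have hxq : b'.left (q x) = f (p.left x) :=
    (Scheme.Hom.comp_apply q b'.left x).symm.trans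
      ((congrArg (fun k => k x) sq.w.symm).trans (Scheme.Hom.comp_apply p.left f x))
  obtain ⟨_, ⟨V', hV', rfl⟩, hxV', hV'V⟩ := T.left.isBasis_affineOpens.exists_subset_of_mem_open
    (show q x ∈ b'.left ⁻¹ᵁ U i by
      change b'.left (q x) ∈ U i
      rw [hxq]; exact hi) (b'.left ⁻¹ᵁ U i).isOpen
  let P' : (hr.pullback ((yon Y).map b')).left.Opens := p.left ⁻¹ᵁ (f ⁻¹ᵁ U i) ⊓ q ⁻¹ᵁ V'
  have sqO := Scheme.Hom.isPullback_resLE sq (US := U i) (UT := V') (UX := f ⁻¹ᵁ U i) hV'V le_rfl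
    (UY := P') rfl
  have h1 : MoreMor.IsFormallySmoothHom (q.resLE V' P' inf_le_right) := by
    refine Formal.baseChange sqO ?_
    rw [Scheme.Hom.resLE_eq_morphismRestrict]
    exact hf i
  obtain ⟨_, ⟨O, hO, rfl⟩, hxO, hOP⟩ :=
    (hr.pullback ((yon Y).map b')).left.isBasis_affineOpens.exists_subset_of_mem_open
      (show x ∈ P' from ⟨show f (p.left x) ∈ U i from hi, hxV'⟩) P'.isOpen
  have : IsAffine (O : Scheme.{u}) := hO
  refine ⟨O, hO, hxO, Formal.formallySmooth_appTop ?_⟩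
  have h2 : MoreMor.IsFormallySmoothHom
      (((hr.pullback ((yon Y).map b')).left.homOfLE hOP ≫ q.resLE V' P' inf_le_right) ≫ Scheme.Opens.ι V') :=
    FormalEtale.comp_smooth _ _ (FormalEtale.comp_smooth _ _
      (Formal.isFormallySmoothHom_of_etale _) h1) (Formal.isFormallySmoothHom_of_etale _)
  rw [Category.assoc, Scheme.Hom.resLE_comp_ι, Scheme.homOfLE_ι_assoc] at h2
  exact h2

theorem formallySmooth_of_affine_ff {X Y Y' X' : Scheme.{u}} [IsAffine X] [IsAffine Y] [IsAffine Y']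
    {a : X' ⟶ X} {b : X' ⟶ Y'} {f : X ⟶ Y} {c : Y' ⟶ Y} (sq : IsPullback a b f c) [Flat c]
    [Surjective c] (h : MoreMor.IsFormallySmoothHom b) : f.appTop.hom.FormallySmooth := by
  have : IsAffine X' := .of_isPullback sq
  have hb := Formal.formallySmooth_appTop h
  have hpush := (isPushout_appTop_of_isPullback sq).flip
  have hff : c.appTop.hom.FaithfullyFlat :=
    (Flat.flat_and_surjective_iff_faithfullyFlat_of_isAffine (f := c)).mp ⟨‹_›, ‹_›⟩
  algebraize [f.appTop.hom, c.appTop.hom, b.appTop.hom, a.appTop.hom,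
    b.appTop.hom.comp c.appTop.hom]
  have hw : b.appTop.hom.comp c.appTop.hom = a.appTop.hom.comp f.appTop.hom := by
    rw [← CommRingCat.hom_comp, ← CommRingCat.hom_comp, ← Scheme.Hom.comp_appTop,
      ← Scheme.Hom.comp_appTop, sq.w]
  have : IsScalarTower Γ(Y, ⊤) Γ(X, ⊤) Γ(X', ⊤) := IsScalarTower.of_algebraMap_eq' hw
  have : Algebra.IsPushout Γ(Y, ⊤) Γ(Y', ⊤) Γ(X, ⊤) Γ(X', ⊤) :=
    CommRingCat.isPushout_iff_isPushout.1 hpush
  exact (Groth.Agent.S9447.result Γ(Y, ⊤) Γ(X, ⊤) Γ(Y', ⊤)).2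
    (Algebra.FormallySmooth.of_equiv
      (Algebra.IsPushout.equiv Γ(Y, ⊤) Γ(Y', ⊤) Γ(X, ⊤) Γ(X', ⊤)).symm)

theorem descends : (FS.{u}).DescendsAlong
    (@Surjective ⊓ @Flat ⊓ @QuasiCompact : MorphismProperty Scheme.{u}) := by
  refine ⟨fun {A Y' X Y fst snd g f} sq ⟨⟨hgs, hgf⟩, hgq⟩ hfst => ?_⟩
  refine Formal.isFormallySmoothHom_of_affineLocally f fun U V hU hV e => ?_
  have : IsAffine (U : Scheme.{u}) := hU
  have : IsAffine (V : Scheme.{u}) := hV
  obtain ⟨s, hsfin, hs⟩ := (isCompact_and_isOpen_iff_finite_and_eq_biUnion_affineOpens (U := ((g ⁻¹ᵁ V : Y'.Opens) : Set Y'))).1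
    ⟨g.isCompact_preimage hV.isCompact, (g ⁻¹ᵁ V).isOpen⟩
  have : Finite s := hsfin
  have hle : ∀ W : s, W.1.1 ≤ g ⁻¹ᵁ V := fun W w hw => by
    have : w ∈ ((g ⁻¹ᵁ V : Y'.Opens) : Set Y') := by rw [hs]; exact Set.mem_biUnion W.2 hw
    exact this
  have hWaff : ∀ W : s, IsAffine (W.1.1 : Scheme.{u}) := fun W => W.1.2
  let V'' : Scheme.{u} := ∐ fun W : s => (W.1.1 : Scheme.{u})
  have : IsAffine V'' := inferInstanceAs (IsAffine (∐ fun W : s => (W.1.1 : Scheme.{u})))
  let k : V'' ⟶ Y' := Sigma.desc fun W : s => W.1.1.ι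
  let c : V'' ⟶ V := Sigma.desc fun W : s => g.resLE V W.1.1 (hle W)
  have : Flat c := IsZariskiLocalAtSource.sigmaDesc (P := @Flat) fun W => inferInstance
  have : Surjective c := ⟨fun v => by
    obtain ⟨w, hw⟩ := g.surjective v.1
    have hw' : w ∈ ((g ⁻¹ᵁ V : Y'.Opens) : Set Y') := by
      change g w ∈ V
      rw [hw]; exact v.2
    rw [hs] at hw'
    obtain ⟨W, hW, hwW⟩ := Set.mem_iUnion₂.1 hw'
    refine ⟨Sigma.ι (fun W : s => (W.1.1 : Scheme.{u})) ⟨W, hW⟩ ⟨w, hwW⟩, V.ι.injective ?_⟩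
    rw [← Scheme.Hom.comp_apply, ← Scheme.Hom.comp_apply, Sigma.ι_desc_assoc,
      Scheme.Hom.resLE_comp_ι]
    exact hw⟩
  have : Etale k := IsZariskiLocalAtSource.sigmaDesc (P := @Etale) fun W => inferInstance
  have hkc : k ≫ g = c ≫ V.ι := Sigma.hom_ext _ _ fun W => by
    simp [k, c, Scheme.Hom.resLE_comp_ι]
  have sqA := IsPullback.of_hasPullback (f.resLE V U e) c
  have sqV : IsPullback (𝟙 (U : Scheme.{u})) (f.resLE V U e) (U.ι ≫ f) V.ι :=
    ⟨⟨by rw [Category.id_comp, Scheme.Hom.resLE_comp_ι]⟩,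
      ⟨PullbackCone.IsLimit.mk _ (fun t => t.fst) (fun t => Category.comp_id _)
        (fun t => by rw [← cancel_mono V.ι, Category.assoc, Scheme.Hom.resLE_comp_ι, t.condition])
        (fun t m h₁ _ => by simpa using h₁)⟩⟩
  have sqU := sqA.paste_horiz sqV
  rw [Category.comp_id, ← hkc] at sqU
  have sqB := (IsPullback.of_hasPullback fst k).paste_horiz sq.flip
  obtain ⟨ψ, hψ₁, hψ₂⟩ : ∃ ψ, ψ ≫ (pullback.fst fst k ≫ snd) = pullback.fst _ c ≫ U.ι ∧
      ψ ≫ pullback.snd fst k = pullback.snd (f.resLE V U e) c :=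
    ⟨sqB.lift _ _ (by rw [Category.assoc, sqU.w]), sqB.lift_fst _ _ _, sqB.lift_snd _ _ _⟩
  have sqψ : IsPullback (pullback.fst (f.resLE V U e) c) ψ U.ι (pullback.fst fst k ≫ snd) :=
    IsPullback.of_bot (by rw [hψ₂]; exact sqU) hψ₁.symm sqB
  have : IsOpenImmersion ψ := MorphismProperty.of_isPullback (P := @IsOpenImmersion) sqψ inferInstance
  have h1 : MoreMor.IsFormallySmoothHom (pullback.snd (f.resLE V U e) c) := by
    rw [← hψ₂]
    exact FormalEtale.comp_smooth _ _ (Formal.isFormallySmoothHom_of_etale ψ)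
      (Formal.baseChange (IsPullback.of_hasPullback fst k) hfst)
  have h2 := formallySmooth_of_affine_ff sqA h1
  exact (RingHom.FormallySmooth.respectsIso.arrow_mk_iso_iff (arrowResLEAppIso f V U e)).1 h2

theorem isLocalOnBase {S : Scheme.{u}} :
    AlgSp.IsLocalOnBase (S := S) AlgSp.IsFpqcCover AlgSp.IsFormallySmoothMor := by
  intro ι Y Yi gi hY hYi hg X f hX Xi p q hXi sq
  rw [Space.formallySmooth_iff hX hY f,
    LocP.isLocalOnBase etaleLocalST isZariskiLocalAtTarget descends Yi gi hY hYi hg f hX Xi p q hXi sq]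
  exact forall_congr' fun i => (Space.formallySmooth_iff (hXi i) (hYi i) (p i)).symm

end Groth.Agent.Lib.AlgSpFpqc.FormallySmooth
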