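import Groth.Agent.Lib.AlgSpFpqc.ST
import Groth.Agent.Lib.AlgSpace.OpenSubExists
import Groth.Agent.Lib.AlgSpace.OpenSub

/-!
# The largest open subspace over which a local property holds
-/

set_option autoImplicit false
set_option backward.isDefEq.respectTransparency false
set_option backward.isDefEq.respectTransparency.types false

universe u

open CategoryTheory CategoryTheory.Limits AlgebraicGeometry

namespace Groth.Agent.Lib.AlgSpFpqc.LargestOpen

open AlgSp (Sp yon IsAlgSpace RepWith LocP Points)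
open Groth.Agent.Lib.AlgSpace

variable {S : Scheme.{u}}

/-- A class of morphisms of algebraic spaces suitable for coverings: open maps, stable under base
change and composition, containing open immersions. -/
structure OpenClass (R : MorphismProperty (Sp S)) : Prop where
  openMap : ∀ ⦃A B : Sp S⦄, IsAlgSpace A → IsAlgSpace B → ∀ g : A ⟶ B, R g → IsOpenMap (Points.map g)
  bc : ∀ ⦃A B A' B' : Sp S⦄, IsAlgSpace A → IsAlgSpace B → IsAlgSpace B' →
    ∀ (g : A ⟶ B) (k : B' ⟶ B) (g' : A' ⟶ B') (k' : A' ⟶ A), IsPullback k' g' g k → R g → R g'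
  comp : ∀ ⦃A B C : Sp S⦄, IsAlgSpace A → IsAlgSpace B → IsAlgSpace C →
    ∀ (g : A ⟶ B) (k : B ⟶ C), R g → R k → R (g ≫ k)
  openImm : ∀ ⦃A B : Sp S⦄, IsAlgSpace A → IsAlgSpace B → ∀ g : A ⟶ B,
    RepWith @IsOpenImmersion g → R g

variable {R : MorphismProperty (Sp S)}

/-- The restriction of `f` over every open subspace with point set `W` has `P`. -/
def Holds (P : MorphismProperty (Sp S)) {X Y : Sp S} (f : X ⟶ Y) (W : Set (Points Y)) : Prop :=
  ∀ (W₀ X₀ : AlgSp.Space S) (j₀ : W₀.obj ⟶ Y) (j₀' : X₀.obj ⟶ X) (f₀ : X₀.obj ⟶ W₀.obj),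
    RepWith @IsOpenImmersion j₀ → Set.range (Points.map j₀) = W → IsPullback j₀' f₀ f j₀ → P f₀

theorem exists_largest (hR : OpenClass R) {P : MorphismProperty (Sp S)}
    (hP : AlgSp.IsLocalOnBase (fun _ _ Y g ↦ AlgSp.IsCover R Y g) P) {X Y : Sp S}
    (hX : IsAlgSpace X) (hY : IsAlgSpace Y) (f : X ⟶ Y) :
    ∃ W : TopologicalSpace.Opens (Points Y),
      Holds P f W ∧
      (∀ V : TopologicalSpace.Opens (Points Y), Holds P f V → V ≤ W) ∧
      (∀ (Y' X' : AlgSp.Space S) (g : Y'.obj ⟶ Y) (g' : X'.obj ⟶ X) (f' : X'.obj ⟶ Y'.obj),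
        R g → IsPullback g' f' f g → P f' → Set.range (Points.map g) ⊆ (W : Set (Points Y))) ∧
      ∀ (Y' X' : AlgSp.Space S) (g : Y'.obj ⟶ Y) (g' : X'.obj ⟶ X) (f' : X'.obj ⟶ Y'.obj),
        R g → IsPullback g' f' f g → ∀ W' : TopologicalSpace.Opens (Points Y'.obj),
          Holds P f' W' → (∀ V' : TopologicalSpace.Opens (Points Y'.obj), Holds P f' V' → V' ≤ W') →
          (W' : Set (Points Y'.obj)) = Points.map g ⁻¹' (W : Set (Points Y)) := by
  let good : Set (Points Y) := {y | ∃ (Y' X' : AlgSp.Space S) (g : Y'.obj ⟶ Y) (g' : X'.obj ⟶ X)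
    (f' : X'.obj ⟶ Y'.obj), R g ∧ IsPullback g' f' f g ∧ P f' ∧ y ∈ Set.range (Points.map g)}
  have hgo : IsOpen good := by
    rw [isOpen_iff_forall_mem_open]
    rintro y ⟨Y', X', g, g', f', hg, sq, hp, hy⟩
    refine ⟨Set.range (Points.map g), fun z hz ↦ ⟨Y', X', g, g', f', hg, sq, hp, hz⟩, ?_, hy⟩
    rw [← Set.image_univ]
    exact hR.openMap Y'.property hY g hg _ isOpen_univ
  obtain ⟨A, c, -, hcs⟩ := hY.atlas
  have hW : Holds P f good := by
    intro W₀ X₀ j₀ j₀' f₀ hj hr sq₀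
    let ι := {a : ↥A.left // Points.ofPt c a ∈ good}
    choose Y' X' g g' f' hg sq hp hy using fun a : ι ↦ a.2
    have hlift : ∀ a : ι, ∃ l : (Y' a).obj ⟶ W₀.obj, l ≫ j₀ = g a := fun a ↦
      (exists_lift_iff_range_subset hj (g a)).2 (by
        rw [hr]
        exact fun z hz ↦ ⟨Y' a, X' a, g a, g' a, f' a, hg a, sq a, hp a, hz⟩)
    choose l hl using hlift
    have : Mono j₀ := mono_of_repWith (fun _ _ k (_ : IsOpenImmersion k) ↦ (inferInstance : Mono k)) hj
    have sqid : ∀ a, IsPullback (𝟙 (Y' a).obj) (l a) (g a) j₀ := fun a ↦ by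
      rw [← hl a]
      exact isPullback_of_yon (by rw [Category.id_comp]) (fun T z z' h _ ↦ by simpa using h)
        fun T z z' h ↦ ⟨z, Category.comp_id _, by
          rw [← cancel_mono j₀, Category.assoc, h]⟩
    have hlR : ∀ a, R (l a) := fun a ↦
      hR.bc (Y' a).property hY W₀.property (g a) j₀ (l a) (𝟙 _) (sqid a) (hg a)
    have hcov : AlgSp.IsCover R (fun a : ι ↦ (Y' a).obj) l := by
      refine ⟨hlR, fun z ↦ ?_⟩
      obtain ⟨a, ha⟩ := surjective_ofPt hcs (Points.map j₀ z)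
      have hag : Points.ofPt c a ∈ good := by rw [ha, ← hr]; exact ⟨z, rfl⟩
      obtain ⟨y', hy'⟩ := hy ⟨a, hag⟩
      refine ⟨⟨a, hag⟩, y', injective_map_of_mono j₀ ?_⟩
      rw [← Points.map_comp, hl, hy', ha]
    have sqa : ∀ a, IsPullback (sq₀.lift (g' a) (f' a ≫ l a)
        (by rw [Category.assoc, hl]; exact (sq a).w)) (f' a) f₀ (l a) := fun a ↦
      IsPullback.of_right (by rw [sq₀.lift_fst, hl]; exact sq a) (sq₀.lift_snd _ _ _) sq₀
    exact (hP _ l W₀.property (fun a ↦ (Y' a).property) hcov f₀ X₀.property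
      (fun a ↦ (X' a).obj) f' _ (fun a ↦ (X' a).property) sqa).2 hp
  refine ⟨⟨good, hgo⟩, hW, fun V hV y hy ↦ ?_, fun Y' X' g g' f' hg sq hp z hz ↦
    ⟨Y', X', g, g', f', hg, sq, hp, hz⟩, fun Y' X' g g' f' hg sq W' hW' hmax ↦ ?_⟩
  · obtain ⟨F, j, hF, hj, hr⟩ := exists_open_subspace hY V.isOpen
    have sqF := IsPullback.of_hasPullback f j
    have hFX : IsAlgSpace (pullback f j) := isAlgSpace_of_isPullback sqF hY.diag hX hF
    exact ⟨⟨F, hF⟩, ⟨_, hFX⟩, j, _, _, hR.openImm hF hY j hj, sqF,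
      hV ⟨F, hF⟩ ⟨_, hFX⟩ j _ _ hj hr sqF, hr ▸ hy⟩
  apply le_antisymm
  · intro y hy
    obtain ⟨F, j, hF, hj, hr⟩ := exists_open_subspace Y'.property W'.isOpen
    have sqF := IsPullback.of_hasPullback f' j
    have hFX : IsAlgSpace (pullback f' j) :=
      isAlgSpace_of_isPullback sqF Y'.property.diag X'.property hF
    obtain ⟨z, rfl⟩ : y ∈ Set.range (Points.map j) := hr ▸ hy
    exact ⟨⟨F, hF⟩, ⟨_, hFX⟩, j ≫ g, _, _,
      hR.comp hF Y'.property hY j g (hR.openImm hF Y'.property j hj) hg, sqF.paste_horiz sq,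
      hW' ⟨F, hF⟩ ⟨_, hFX⟩ j _ _ hj hr sqF, z, Points.map_comp j g z⟩
  · refine hmax ⟨Points.map g ⁻¹' good, hgo.preimage (Points.continuous_map g)⟩ ?_
    intro W₁ X₁ j₁ j₁' f₁ hj₁ hr₁ sq₁
    obtain ⟨W₀, j₀, hW₀, hj₀, hr₀⟩ := exists_open_subspace hY hgo
    obtain ⟨l, hl⟩ := (exists_lift_iff_range_subset hj₀ (j₁ ≫ g)).2 (by
      rw [hr₀]
      rintro _ ⟨z, rfl⟩
      rw [Points.map_comp]
      exact (hr₁.subset ⟨z, rfl⟩))
    have sq0 := IsPullback.of_hasPullback f j₀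
    have hX₀ : IsAlgSpace (pullback f j₀) := isAlgSpace_of_isPullback sq0 hY.diag hX hW₀
    have hf₀ : P (pullback.snd f j₀) := hW ⟨W₀, hW₀⟩ ⟨_, hX₀⟩ j₀ _ _ hj₀ hr₀ sq0
    have sq2 := sq₁.paste_horiz sq
    rw [← hl] at sq2
    have sq3 := IsPullback.of_right' sq2 sq0
    have : Mono j₀ := mono_of_repWith (fun _ _ k (_ : IsOpenImmersion k) ↦ (inferInstance : Mono k)) hj₀
    have hlR : R l := hR.bc W₁.property hY hW₀ (j₁ ≫ g) j₀ l (𝟙 _)
      (by
        rw [← hl]
        exact isPullback_of_yon (by rw [Category.id_comp]) (fun T z z' h _ ↦ by simpa using h)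
          fun T z z' h ↦ ⟨z, Category.comp_id _, by rw [← cancel_mono j₀, Category.assoc, h]⟩)
      (hR.comp W₁.property Y'.property hY j₁ g (hR.openImm W₁.property Y'.property j₁ hj₁) hg)
    exact ST.baseChange_of_base hP hX₀ hW₀ W₁.property X₁.property sq3 hlR
      (hR.openImm hW₀ hW₀ (𝟙 W₀) (repWith_of_isIso _ _)) hf₀

theorem openClass_fppf : OpenClass (S := S)
    (fun _ _ g ↦ LocP @Flat g ∧ LocP @LocallyOfFinitePresentation g) where
  openMap _ _ hA hB _ h := Fppf.isOpenMap hA hB h.1 h.2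
  bc _ _ _ _ hA hB hB' _ _ _ _ sq h :=
    ⟨Lib.AlgSpMor.LocP.locP_of_isPullback SourceDescent.Scheme.flat hA hB hB' sq h.1,
      Lib.AlgSpMor.LocP.locP_of_isPullback SourceDescent.Scheme.locallyOfFinitePresentation hA hB hB'
        sq h.2⟩
  comp _ _ _ hA hB hC _ _ h h' :=
    ⟨Lib.AlgSpMor.LocP.locP_comp SourceDescent.Scheme.flat hA hB hC h.1 h'.1,
      Lib.AlgSpMor.LocP.locP_comp SourceDescent.Scheme.locallyOfFinitePresentation hA hB hC h.2 h'.2⟩
  openImm _ _ _ _ _ h :=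
    ⟨Lib.AlgSpMor.LocP.locP_of_repWith SourceDescent.Scheme.flat
        (repWith_mono h fun _ _ k (_ : IsOpenImmersion k) ↦ (inferInstance : Flat k)),
      Lib.AlgSpMor.LocP.locP_of_repWith SourceDescent.Scheme.locallyOfFinitePresentation
        (repWith_mono h fun _ _ k (_ : IsOpenImmersion k) ↦
          (inferInstance : LocallyOfFinitePresentation k))⟩

theorem openClass_smooth : OpenClass (S := S) (LocP @Smooth) where
  openMap _ _ hA hB _ h := Fppf.isOpenMap hA hB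
    (fun _ _ a b k ha hb w ↦ have : Smooth k.left := h a b k ha hb w; inferInstance)
    (fun _ _ a b k ha hb w ↦ have : Smooth k.left := h a b k ha hb w; inferInstance)
  bc _ _ _ _ hA hB hB' _ _ _ _ sq h :=
    Lib.AlgSpMor.LocP.locP_of_isPullback SourceDescent.Scheme.smooth hA hB hB' sq h
  comp _ _ _ hA hB hC _ _ h h' :=
    Lib.AlgSpMor.LocP.locP_comp SourceDescent.Scheme.smooth hA hB hC h h'
  openImm _ _ _ _ _ h := Lib.AlgSpMor.LocP.locP_of_repWith SourceDescent.Scheme.smooth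
    (repWith_mono h fun _ _ k (_ : IsOpenImmersion k) ↦ (inferInstance : Smooth k))

theorem openClass_etale : OpenClass (S := S) AlgSp.IsEtaleMor where
  openMap A B hA hB g h := openClass_smooth.openMap hA hB g (ST.smooth_of_etale hA hB h)
  bc _ _ _ _ hA hB hB' _ _ _ _ sq h :=
    (AlgStack.Source.isEtaleMor_iff (isAlgSpace_of_isPullback sq hB.diag hA hB') hB' _).2
      (Lib.AlgSpMor.LocP.locP_of_isPullback SourceDescent.Scheme.etale hA hB hB' sq
        ((AlgStack.Source.isEtaleMor_iff hA hB _).1 h))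
  comp _ _ _ hA hB hC _ _ h h' :=
    (AlgStack.Source.isEtaleMor_iff hA hC _).2 (Lib.AlgSpMor.LocP.locP_comp
      SourceDescent.Scheme.etale hA hB hC ((AlgStack.Source.isEtaleMor_iff hA hB _).1 h)
      ((AlgStack.Source.isEtaleMor_iff hB hC _).1 h'))
  openImm _ _ hA hB _ h := (AlgStack.Source.isEtaleMor_iff hA hB _).2
    (Lib.AlgSpMor.LocP.locP_of_repWith SourceDescent.Scheme.etale
      (repWith_mono h fun _ _ k (_ : IsOpenImmersion k) ↦ (inferInstance : Etale k)))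

end Groth.Agent.Lib.AlgSpFpqc.LargestOpen
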