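import Groth.Prelude.Def_AlgSpGpd
import Groth.Agent.Lib.AlgSpFpqc.LargestOpen

/-!
# Invariance of the largest open over which a local property holds
-/

set_option autoImplicit false
set_option backward.isDefEq.respectTransparency false
set_option backward.isDefEq.respectTransparency.types false

universe u

open CategoryTheory CategoryTheory.Limits AlgebraicGeometry

namespace Groth.Agent.Lib.AlgSpFpqc.Invariant

open AlgSp (Sp yon IsAlgSpace RepWith LocP Points GroupoidSp)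
open Groth.Agent.Lib.AlgSpace LargestOpen

variable {S : Scheme.{u}}

section Maximal

variable {R : MorphismProperty (Sp S)} {P : MorphismProperty (Sp S)}

theorem iff_of_isPullback (hR : OpenClass R)
    (hP : AlgSp.IsLocalOnBase (fun _ _ Y g ↦ AlgSp.IsCover R Y g) P)
    {X Y W X₁ X₂ : Sp S} (hW : IsAlgSpace W) (h₁ : IsAlgSpace X₁) (h₂ : IsAlgSpace X₂)
    {f : X ⟶ Y} {j : W ⟶ Y} {q₁ : X₁ ⟶ X} {p₁ : X₁ ⟶ W} {q₂ : X₂ ⟶ X} {p₂ : X₂ ⟶ W}
    (sq₁ : IsPullback q₁ p₁ f j) (sq₂ : IsPullback q₂ p₂ f j) : P p₁ ↔ P p₂ := by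
  have sq : IsPullback (sq₁.isoIsPullback _ _ sq₂).inv p₂ p₁ (𝟙 W) :=
    IsPullback.of_horiz_isIso ⟨by simp⟩
  refine (hP (fun _ : PUnit.{u + 1} ↦ W) (fun _ ↦ 𝟙 W) hW (fun _ ↦ hW)
    ⟨fun _ ↦ hR.openImm hW hW _ (repWith_of_isIso _ _), fun z ↦ ⟨⟨⟩, z, by simp⟩⟩
    p₁ h₁ (fun _ ↦ X₂) (fun _ ↦ p₂) (fun _ ↦ _) (fun _ ↦ h₂) fun _ ↦ sq).trans ⟨fun h ↦ h ⟨⟩,
      fun h _ ↦ h⟩

theorem lift_iff_lift (hR : OpenClass R)
    (hP : AlgSp.IsLocalOnBase (fun _ _ Y g ↦ AlgSp.IsCover R Y g) P)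
    {X U A Xs Xt W : Sp S} (hX : IsAlgSpace X) (hU : IsAlgSpace U) (hA : IsAlgSpace A)
    (hW : IsAlgSpace W) (f : X ⟶ U) (s t : A ⟶ U) (hs : R s) (ht : R t)
    {qs : Xs ⟶ X} {ps : Xs ⟶ A} {qt : Xt ⟶ X} {pt : Xt ⟶ A}
    (sqs : IsPullback qs ps f s) (sqt : IsPullback qt pt f t) (e : Xs ≅ Xt) (he : e.hom ≫ pt = ps)
    (w : W ⟶ U) (hw : RepWith @IsOpenImmersion w)
    (hmax : ∀ (W' : Sp S) (w' : W' ⟶ U), IsAlgSpace W' → RepWith @IsOpenImmersion w' →
      (P (pullback.snd f w') ↔ ∃ k : W' ⟶ W, k ≫ w = w'))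
    {T : Over S} (r : (yon S).obj T ⟶ A) :
    (∃ a : (yon S).obj T ⟶ W, a ≫ w = r ≫ t) ↔ (∃ a : (yon S).obj T ⟶ W, a ≫ w = r ≫ s) := by
  obtain ⟨W₁, hW₁, hmax₁, -, hpre⟩ := exists_largest hR hP hX hU f
  have hrange : Set.range (Points.map w) = (W₁ : Set (Points U)) := by
    have hwo : IsOpen (Set.range (Points.map w)) := by
      rw [← Set.image_univ]
      exact hR.openMap hW hU w (hR.openImm hW hU w hw) _ isOpen_univ
    apply le_antisymm
    · refine hmax₁ ⟨_, hwo⟩ fun W₀ X₀ j₀ j₀' f₀ hj₀ hr₀ sq₀ ↦ ?_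
      have sq := IsPullback.of_hasPullback f j₀
      rw [iff_of_isPullback hR hP W₀.property X₀.property
        (isAlgSpace_of_isPullback sq hU.diag hX W₀.property) sq₀ sq]
      exact (hmax _ j₀ W₀.property hj₀).2
        ((exists_lift_iff_range_subset hw j₀).2 (by rw [hr₀]; exact subset_rfl))
    · obtain ⟨F, j, hF, hj, hr⟩ := exists_open_subspace hU W₁.isOpen
      have sq := IsPullback.of_hasPullback f j
      have := (hmax F j hF hj).1
        (hW₁ ⟨F, hF⟩ ⟨_, isAlgSpace_of_isPullback sq hU.diag hX hF⟩ j _ _ hj hr sq)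
      rw [← hr]
      exact (exists_lift_iff_range_subset hw j).1 this
  have hXs : IsAlgSpace Xs := isAlgSpace_of_isPullback sqs hU.diag hX hA
  have hXt : IsAlgSpace Xt := isAlgSpace_of_isPullback sqt hU.diag hX hA
  have hiff : ∀ V : Set (Points A), Holds P ps V ↔ Holds P pt V := by
    intro V
    constructor
    · intro h W₀ X₀ j₀ j₀' f₀ hj₀ hr₀ sq₀
      exact h W₀ X₀ j₀ (j₀' ≫ e.inv) f₀ hj₀ hr₀ (sq₀.of_iso (Iso.refl _) e.symm (Iso.refl _)
        (Iso.refl _) (by simp) (by simp) (by simp [← he]) (by simp))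
    · intro h W₀ X₀ j₀ j₀' f₀ hj₀ hr₀ sq₀
      exact h W₀ X₀ j₀ (j₀' ≫ e.hom) f₀ hj₀ hr₀ (sq₀.of_iso (Iso.refl _) e (Iso.refl _)
        (Iso.refl _) (by simp) (by simp) (by simp [he]) (by simp))
  obtain ⟨Ws, hWs, hmaxs, -, -⟩ := exists_largest hR hP hXs hA ps
  have e₁ := hpre ⟨A, hA⟩ ⟨Xs, hXs⟩ s qs ps hs sqs Ws hWs hmaxs
  have e₂ := hpre ⟨A, hA⟩ ⟨Xt, hXt⟩ t qt pt ht sqt Ws ((hiff _).1 hWs)
    fun V hV ↦ hmaxs V ((hiff _).2 hV)
  have he' : Points.map t ⁻¹' (Set.range (Points.map w)) = Points.map s ⁻¹' (Set.range (Points.map w)) := by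
    rw [hrange]; exact e₂.symm.trans e₁
  rw [exists_lift_iff_range_subset hw, exists_lift_iff_range_subset hw]
  simp only [Set.range_subset_iff, Points.map_comp]
  exact forall_congr' fun z ↦ Set.ext_iff.1 he' (Points.map r z)

end Maximal

section Groupoid

variable {B : Sp S} (G : GroupoidSp B) {T : Sp S}

/-- Composition of two composable arrows. -/
noncomputable def m (α β : T ⟶ G.R) (h : α ≫ G.s = β ≫ G.t) : T ⟶ G.R := pullback.lift α β h ≫ G.c

theorem m_congr {α α' β β' : T ⟶ G.R} (h : α ≫ G.s = β ≫ G.t) (h' : α' ≫ G.s = β' ≫ G.t)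
    (e₁ : α = α') (e₂ : β = β') : m G α β h = m G α' β' h' := by subst e₁ e₂; rfl

@[reassoc (attr := simp)]
theorem m_s (α β : T ⟶ G.R) (h : α ≫ G.s = β ≫ G.t) : m G α β h ≫ G.s = β ≫ G.s := G.comp_s α β h

@[reassoc (attr := simp)]
theorem m_t (α β : T ⟶ G.R) (h : α ≫ G.s = β ≫ G.t) : m G α β h ≫ G.t = α ≫ G.t := G.comp_t α β h

theorem m_assoc (α β γ : T ⟶ G.R) (h₁ : α ≫ G.s = β ≫ G.t) (h₂ : β ≫ G.s = γ ≫ G.t)
    (h₃ : m G α β h₁ ≫ G.s = γ ≫ G.t) (h₄ : α ≫ G.s = m G β γ h₂ ≫ G.t) :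
    m G (m G α β h₁) γ h₃ = m G α (m G β γ h₂) h₄ := G.assoc α β γ h₁ h₂

theorem comp_m {T' : Sp S} (f : T' ⟶ T) (α β : T ⟶ G.R) (h : α ≫ G.s = β ≫ G.t) :
    f ≫ m G α β h = m G (f ≫ α) (f ≫ β) (by rw [Category.assoc, h, Category.assoc]) := by
  rw [m, m, ← Category.assoc]
  congr 1
  apply pullback.hom_ext <;> simp

theorem m_e (α ε : T ⟶ G.R) (u : T ⟶ G.U) (hε : ε = u ≫ G.e) (hu : u = α ≫ G.s) (h : α ≫ G.s = ε ≫ G.t) :
    m G α ε h = α :=
  (m_congr G h _ rfl (by rw [hε, hu, Category.assoc])).trans (G.comp_e α)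

theorem e_m (α ε : T ⟶ G.R) (u : T ⟶ G.U) (hε : ε = u ≫ G.e) (hu : u = α ≫ G.t) (h : ε ≫ G.s = α ≫ G.t) :
    m G ε α h = α :=
  (m_congr G h _ (by rw [hε, hu, Category.assoc]) rfl).trans (G.e_comp α)

/-- The inverse of an arrow. -/
noncomputable abbrev inv (r : T ⟶ G.R) : T ⟶ G.R := r ≫ G.i

theorem inv_s (r : T ⟶ G.R) : inv G r ≫ G.s = r ≫ G.t := by simp [G.i_s]

theorem inv_t (r : T ⟶ G.R) : inv G r ≫ G.t = r ≫ G.s := by simp [G.i_t]

theorem m_inv_m (x r : T ⟶ G.R) (h₁ : x ≫ G.s = inv G r ≫ G.t)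
    (h₂ : m G x (inv G r) h₁ ≫ G.s = r ≫ G.t) : m G (m G x (inv G r) h₁) r h₂ = x := by
  rw [m_assoc G x (inv G r) r h₁ (inv_s G r) h₂ (by rw [m_t]; exact h₁)]
  exact m_e G x _ (r ≫ G.s) ((G.i_comp r).trans (Category.assoc _ _ _).symm)
    (by rw [h₁, inv_t]) _

theorem m_m_inv (x r : T ⟶ G.R) (h₁ : x ≫ G.s = r ≫ G.t)
    (h₂ : m G x r h₁ ≫ G.s = inv G r ≫ G.t) : m G (m G x r h₁) (inv G r) h₂ = x := by
  rw [m_assoc G x r (inv G r) h₁ (inv_t G r).symm h₂ (by rw [m_t]; exact h₁)]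
  exact m_e G x _ (r ≫ G.t) ((G.comp_i r).trans (Category.assoc _ _ _).symm) h₁.symm _

theorem m_inv_left (y r : T ⟶ G.R) (h₁ : inv G r ≫ G.s = y ≫ G.t)
    (h₂ : r ≫ G.s = m G (inv G r) y h₁ ≫ G.t) : m G r (m G (inv G r) y h₁) h₂ = y := by
  rw [← m_assoc G r (inv G r) y (inv_t G r).symm h₁ (by rw [m_s]; exact h₁) h₂]
  exact e_m G y _ (r ≫ G.t) ((G.comp_i r).trans (Category.assoc _ _ _).symm)
    (by rw [← h₁, inv_s]) _

theorem inv_m_left (y r : T ⟶ G.R) (h₁ : r ≫ G.s = y ≫ G.t)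
    (h₂ : inv G r ≫ G.s = m G r y h₁ ≫ G.t) : m G (inv G r) (m G r y h₁) h₂ = y := by
  rw [← m_assoc G (inv G r) r y (inv_s G r) h₁ (by rw [m_s]; exact h₁) h₂]
  exact e_m G y _ (r ≫ G.s) ((G.i_comp r).trans (Category.assoc _ _ _).symm) h₁ _

/-- `R ×_{s, U, s} R ≅ R ×_{s, U, t} R`, over the second factor. -/
noncomputable def isoSource : pullback G.s G.s ≅ pullback G.s G.t where
  hom := pullback.lift (m G (pullback.fst G.s G.s) (inv G (pullback.snd _ _))
      (by rw [inv_t, pullback.condition])) (pullback.snd _ _) (by rw [m_s, inv_s])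
  inv := pullback.lift G.c (pullback.snd _ _) (by
    have := G.comp_s (pullback.fst G.s G.t) (pullback.snd G.s G.t) pullback.condition
    rwa [show pullback.lift (pullback.fst G.s G.t) (pullback.snd G.s G.t) pullback.condition = 𝟙 _
      from pullback.hom_ext (by simp) (by simp), Category.id_comp] at this)
  hom_inv_id := by
    apply pullback.hom_ext
    · rw [Category.assoc, pullback.lift_fst, Category.id_comp]
      exact m_inv_m G _ (pullback.snd G.s G.s) _ (by rw [m_s, inv_s])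
    · simp
  inv_hom_id := by
    apply pullback.hom_ext
    · simp only [Category.assoc, pullback.lift_fst, Category.id_comp]
      rw [comp_m]
      refine (m_congr G _ ?_ ?_ ?_).trans
        (m_m_inv G (pullback.fst G.s G.t) (pullback.snd _ _) pullback.condition
          (by rw [m_s, inv_t]))
      · rw [m_s, inv_t]
      · rw [pullback.lift_fst, m,
          show pullback.lift (pullback.fst G.s G.t) (pullback.snd G.s G.t) pullback.condition = 𝟙 _
            from pullback.hom_ext (by simp) (by simp), Category.id_comp]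
      · rw [inv, pullback.lift_snd_assoc]
    · simp

theorem stabilizer_lift {T : Sp S} (g : T ⟶ G.R) (u : T ⟶ G.U) (ht : g ≫ G.t = u) (hs : g ≫ G.s = u) :
    g ≫ G.j = u ≫ G.diag := by
  apply pullback.hom_ext
  · rw [Category.assoc, G.j_fst, Category.assoc, GroupoidSp.diag, pullback.lift_fst, Category.comp_id, ht]
  · rw [Category.assoc, G.j_snd, Category.assoc, GroupoidSp.diag, pullback.lift_snd, Category.comp_id, hs]

theorem stabilizerι_t : G.stabilizerι ≫ G.t = G.stabilizerToU := by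
  have := (pullback.condition : pullback.fst G.j G.diag ≫ G.j = _) =≫ pullback.fst G.pU G.pU
  simp [GroupoidSp.diag] at this
  exact this

theorem stabilizerι_s : G.stabilizerι ≫ G.s = G.stabilizerToU := by
  have := (pullback.condition : pullback.fst G.j G.diag ≫ G.j = _) =≫ pullback.snd G.pU G.pU
  simp [GroupoidSp.diag] at this
  exact this

/-- The inclusion of the pulled back stabilizer into `R`. -/
noncomputable abbrev arr (g : G.R ⟶ G.U) : pullback G.stabilizerToU g ⟶ G.R :=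
  pullback.fst G.stabilizerToU g ≫ G.stabilizerι

theorem arr_t (g : G.R ⟶ G.U) : arr G g ≫ G.t = pullback.snd G.stabilizerToU g ≫ g := by
  rw [Category.assoc, stabilizerι_t, pullback.condition]

theorem arr_s (g : G.R ⟶ G.U) : arr G g ≫ G.s = pullback.snd G.stabilizerToU g ≫ g := by
  rw [Category.assoc, stabilizerι_s, pullback.condition]

theorem stabilizer_hom_ext {T : Sp S} (g : G.R ⟶ G.U) {a b : T ⟶ pullback G.stabilizerToU g}
    (h₁ : a ≫ arr G g = b ≫ arr G g)
    (h₂ : a ≫ pullback.snd G.stabilizerToU g = b ≫ pullback.snd G.stabilizerToU g) : a = b := by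
  refine pullback.hom_ext (pullback.hom_ext ?_ ?_) h₂
  · rw [Category.assoc, Category.assoc]; exact h₁
  · change (a ≫ pullback.fst _ _) ≫ G.stabilizerToU = (b ≫ pullback.fst _ _) ≫ G.stabilizerToU
    rw [Category.assoc, Category.assoc, pullback.condition, reassoc_of% h₂]

/-- Conjugation of the stabilizer at the source of an arrow to the one at the target. -/
noncomputable def conj : pullback G.stabilizerToU G.s ⟶ pullback G.stabilizerToU G.t :=
  pullback.lift
    (pullback.lift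
      (m G (m G (pullback.snd G.stabilizerToU G.s) (arr G G.s) (arr_t G G.s).symm)
        (inv G (pullback.snd _ _)) (by rw [m_s, inv_t, arr_s]))
      (pullback.snd _ _ ≫ G.t)
      (stabilizer_lift G _ _ (by rw [m_t, m_t]) (by rw [m_s, inv_s])))
    (pullback.snd _ _) (pullback.lift_snd _ _ _)

/-- Conjugation of the stabilizer at the target of an arrow to the one at the source. -/
noncomputable def conj' : pullback G.stabilizerToU G.t ⟶ pullback G.stabilizerToU G.s :=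
  pullback.lift
    (pullback.lift
      (m G (inv G (pullback.snd G.stabilizerToU G.t))
        (m G (arr G G.t) (pullback.snd _ _) (arr_s G G.t)) (by rw [m_t, inv_s, arr_t]))
      (pullback.snd _ _ ≫ G.s)
      (stabilizer_lift G _ _ (by rw [m_t, inv_t]) (by rw [m_s, m_s])))
    (pullback.snd _ _) (pullback.lift_snd _ _ _)

@[reassoc (attr := simp)]
theorem conj_snd : conj G ≫ pullback.snd G.stabilizerToU G.t = pullback.snd _ _ := pullback.lift_snd _ _ _

@[reassoc (attr := simp)]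
theorem conj'_snd : conj' G ≫ pullback.snd G.stabilizerToU G.s = pullback.snd _ _ := pullback.lift_snd _ _ _

theorem conj_arr : conj G ≫ arr G G.t =
    m G (m G (pullback.snd G.stabilizerToU G.s) (arr G G.s) (arr_t G G.s).symm)
      (inv G (pullback.snd _ _)) (by rw [m_s, inv_t, arr_s]) := by
  rw [conj, pullback.lift_fst_assoc]
  exact pullback.lift_fst _ _ _

theorem conj'_arr : conj' G ≫ arr G G.s =
    m G (inv G (pullback.snd G.stabilizerToU G.t))
      (m G (arr G G.t) (pullback.snd _ _) (arr_s G G.t)) (by rw [m_t, inv_s, arr_t]) := by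
  rw [conj', pullback.lift_fst_assoc]
  exact pullback.lift_fst _ _ _

/-- The pullbacks of the stabilizer along source and target are isomorphic over `R`. -/
noncomputable def isoStabilizer : pullback G.stabilizerToU G.s ≅ pullback G.stabilizerToU G.t where
  hom := conj G
  inv := conj' G
  hom_inv_id := stabilizer_hom_ext G _ (by
    rw [Category.assoc, conj'_arr, comp_m, Category.id_comp]
    have hA : conj G ≫ inv G (pullback.snd G.stabilizerToU G.t) = inv G (pullback.snd G.stabilizerToU G.s) := by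
      simp [inv]
    have hB : conj G ≫ m G (arr G G.t) (pullback.snd _ _) (arr_s G G.t) =
        m G (pullback.snd G.stabilizerToU G.s) (arr G G.s) (arr_t G G.s).symm := by
      rw [comp_m]
      refine (m_congr G _ ?_ (conj_arr G) (conj_snd G)).trans (m_inv_m G _ _ _ ?_)
      · rw [m_s, inv_s]
      · rw [m_s, inv_s]
    refine (m_congr G _ ?_ hA hB).trans (inv_m_left G _ _ _ ?_)
    · rw [m_t, inv_s]
    · rw [m_t, inv_s]) (by simp)
  inv_hom_id := stabilizer_hom_ext G _ (by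
    rw [Category.assoc, conj_arr, comp_m, Category.id_comp]
    have hA : conj' G ≫ inv G (pullback.snd G.stabilizerToU G.s) = inv G (pullback.snd G.stabilizerToU G.t) := by
      simp [inv]
    have hB : conj' G ≫ m G (pullback.snd G.stabilizerToU G.s) (arr G G.s) (arr_t G G.s).symm =
        m G (arr G G.t) (pullback.snd _ _) (arr_s G G.t) := by
      rw [comp_m]
      refine (m_congr G _ ?_ (conj'_snd G) (conj'_arr G)).trans (m_inv_left G _ _ _ ?_)
      · rw [m_t, inv_t]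
      · rw [m_t, inv_t]
    refine (m_congr G _ ?_ hB hA).trans (m_m_inv G _ _ _ ?_)
    · rw [m_s, inv_t]
    · rw [m_s, inv_t]) (by simp)

theorem isInvariant_source {R P : MorphismProperty (Sp S)} (hR : OpenClass R)
    (hP : AlgSp.IsLocalOnBase (fun _ _ Y g ↦ AlgSp.IsCover R Y g) P)
    (hU : IsAlgSpace G.U) (hA : IsAlgSpace G.R) (hs : R G.s) (ht : R G.t)
    {W : Sp S} (hW : IsAlgSpace W) (w : W ⟶ G.U) (hw : RepWith @IsOpenImmersion w)
    (hmax : ∀ (W' : Sp S) (w' : W' ⟶ G.U), IsAlgSpace W' → RepWith @IsOpenImmersion w' →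
      (P (pullback.snd G.s w') ↔ ∃ k : W' ⟶ W, k ≫ w = w')) : G.IsInvariant w :=
  fun _ r ↦ lift_iff_lift hR hP hA hU hA hW G.s G.s G.t hs ht (IsPullback.of_hasPullback _ _)
    (IsPullback.of_hasPullback _ _) (isoSource G) (pullback.lift_snd _ _ _) w hw hmax r

theorem isInvariant_stabilizer {R P : MorphismProperty (Sp S)} (hR : OpenClass R)
    (hP : AlgSp.IsLocalOnBase (fun _ _ Y g ↦ AlgSp.IsCover R Y g) P) (hB : IsAlgSpace B)
    (hU : IsAlgSpace G.U) (hA : IsAlgSpace G.R) (hs : R G.s) (ht : R G.t)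
    {W : Sp S} (hW : IsAlgSpace W) (w : W ⟶ G.U) (hw : RepWith @IsOpenImmersion w)
    (hmax : ∀ (W' : Sp S) (w' : W' ⟶ G.U), IsAlgSpace W' → RepWith @IsOpenImmersion w' →
      (P (pullback.snd G.stabilizerToU w') ↔ ∃ k : W' ⟶ W, k ≫ w = w')) : G.IsInvariant w := by
  have hUU : IsAlgSpace (pullback G.pU G.pU) :=
    isAlgSpace_of_isPullback (IsPullback.of_hasPullback _ _) hB.diag hU hU
  have hG : IsAlgSpace G.stabilizer :=
    isAlgSpace_of_isPullback (IsPullback.of_hasPullback G.j G.diag) hUU.diag hA hU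
  exact fun _ r ↦ lift_iff_lift hR hP hG hU hA hW G.stabilizerToU G.s G.t hs ht
    (IsPullback.of_hasPullback _ _) (IsPullback.of_hasPullback _ _) (isoStabilizer G) (conj_snd G)
    w hw hmax r

end Groupoid

end Groth.Agent.Lib.AlgSpFpqc.Invariant
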