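import Groth.Agent.Lib.AlgSpFpqc.Source
import Groth.Agent.H14.FppfDesc.Scheme
import Groth.Agent.Lib.AlgSpMor.Cancel
import Groth.Agent.Lib.AlgSpace.Local
import Mathlib.RingTheory.Flat.FaithfullyFlat.Algebra

/-!
# Properties of `h` from those of `g ≫ h` for `g` locally surjective
-/

set_option autoImplicit false
set_option backward.isDefEq.respectTransparency false
set_option backward.isDefEq.respectTransparency.types false

universe u

open CategoryTheory CategoryTheory.Limits AlgebraicGeometry
open scoped TensorProduct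

namespace Groth.Agent.Lib.AlgSpFpqc.LocSurjSource

/-- If `R → D` is flat and a faithfully flat `B → B'` factors through `B → D`, then `R → B` is flat. -/
theorem flat_of_factor {R B D B' : Type u} [CommRing R] [CommRing B] [CommRing D] [CommRing B']
    [Algebra R B] [Algebra R D] [Module.Flat R D] [Algebra B B'] [Module.FaithfullyFlat B B']
    (g : B →ₐ[R] D) (k : D →+* B') (hk : k.comp g.toRingHom = algebraMap B B') :
    Module.Flat R B := by
  letI : Algebra R B' := Algebra.compHom B' (algebraMap R B)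
  haveI : IsScalarTower R B B' := IsScalarTower.of_algebraMap_eq fun _ ↦ rfl
  let k' : D →ₐ[R] B' := { k with
    commutes' := fun r ↦ by
      rw [← g.commutes r]
      exact RingHom.congr_fun hk (algebraMap R B r) }
  rw [Module.Flat.iff_lTensor_preserves_injective_linearMap]
  have hinj : ∀ (N : Type u) [AddCommGroup N] [Module R N],
      Function.Injective (g.toLinearMap.rTensor N) := by
    intro N _ _
    let ι : B ⊗[R] N →ₗ[B] B' ⊗[B] (B ⊗[R] N) := TensorProduct.mk B B' (B ⊗[R] N) 1
    have hι : Function.Injective ι := Module.FaithfullyFlat.tensorProduct_mk_injective _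
    have key : ∀ z : B ⊗[R] N, TensorProduct.AlgebraTensorModule.cancelBaseChange R B B' B' N (ι z) =
        (k'.toLinearMap.rTensor N) (g.toLinearMap.rTensor N z) := by
      intro z
      induction z using TensorProduct.induction_on with
      | zero => simp
      | tmul b n =>
        have hb : k (g b) = algebraMap B B' b := RingHom.congr_fun hk b
        simp [ι, k', Algebra.smul_def, hb]
      | add x y hx hy => simp [map_add, hx, hy]
    intro x y hxy
    exact hι ((TensorProduct.AlgebraTensorModule.cancelBaseChange R B B' B' N).injective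
      (by rw [key, key, hxy]))
  intro N M _ _ _ _ f hf
  have h2 : Function.Injective ((f.lTensor D).comp (g.toLinearMap.rTensor N)) :=
    (Module.Flat.lTensor_preserves_injective_linearMap f hf).comp (hinj N)
  rw [show (f.lTensor D).comp (g.toLinearMap.rTensor N) =
    (g.toLinearMap.rTensor M).comp (f.lTensor B) from TensorProduct.ext' fun _ _ ↦ rfl] at h2
  exact Function.Injective.of_comp h2

/-- Flatness descends along an fppf covering factoring through a flat morphism. -/
theorem flat_of_section {U U' E V : Scheme.{u}} (q : U ⟶ V) (p : U' ⟶ U) [Flat p] [Surjective p]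
    (r : E ⟶ U) (s : U' ⟶ E) (hs : s ≫ r = p) [Flat (r ≫ q)] : Flat q := by
  subst hs
  refine Flat.of_stalkMap q fun u ↦ ?_
  obtain ⟨u', hu'⟩ := (s ≫ r).surjective u
  subst hu'
  have hp := Flat.stalkMap (s ≫ r) u'
  have hrq := Flat.stalkMap (r ≫ q) (s u')
  rw [Scheme.Hom.stalkMap_comp, CommRingCat.hom_comp] at hrq
  letI := (q.stalkMap ((s ≫ r) u')).hom.toAlgebra
  letI : Algebra (V.presheaf.stalk (q ((s ≫ r) u'))) (E.presheaf.stalk (s u')) :=
    ((r.stalkMap (s u')).hom.comp (q.stalkMap (r (s u'))).hom).toAlgebra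
  haveI : Module.Flat (V.presheaf.stalk (q ((s ≫ r) u'))) (E.presheaf.stalk (s u')) := hrq
  let g : U.presheaf.stalk ((s ≫ r) u') →ₐ[V.presheaf.stalk (q ((s ≫ r) u'))] E.presheaf.stalk (s u') :=
    { (r.stalkMap (s u')).hom with commutes' := fun _ ↦ rfl }
  letI := ((s ≫ r).stalkMap u').hom.toAlgebra
  haveI : Module.Flat (U.presheaf.stalk ((s ≫ r) u')) (U'.presheaf.stalk u') := hp
  haveI : IsLocalHom (algebraMap (U.presheaf.stalk ((s ≫ r) u')) (U'.presheaf.stalk u')) :=
    inferInstanceAs (IsLocalHom ((s ≫ r).stalkMap u').hom)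
  haveI := Module.FaithfullyFlat.of_flat_of_isLocalHom (A := U.presheaf.stalk ((s ≫ r) u'))
    (B := U'.presheaf.stalk u')
  exact flat_of_factor g (s.stalkMap u').hom (by
    change _ = ((s ≫ r).stalkMap u').hom
    rw [Scheme.Hom.stalkMap_comp, CommRingCat.hom_comp])

theorem lft_of_section {U U' E V : Scheme.{u}} (q : U ⟶ V) (p : U' ⟶ U) [Flat p] [Surjective p]
    [LocallyOfFinitePresentation p] (r : E ⟶ U) (s : U' ⟶ E) (hs : s ≫ r = p)
    [LocallyOfFiniteType (r ≫ q)] : LocallyOfFiniteType q := by
  have : LocallyOfFiniteType (s ≫ r) := hs ▸ inferInstance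
  have := locallyOfFiniteType_of_comp s r
  refine H14.FppfDesc.Scheme.locallyOfFiniteType_of_comp p q ?_
  rw [← hs, Category.assoc]; infer_instance

theorem lfp_of_section {U U' E V : Scheme.{u}} (q : U ⟶ V) (p : U' ⟶ U) [Flat p] [Surjective p]
    [LocallyOfFinitePresentation p] (r : E ⟶ U) (s : U' ⟶ E) (hs : s ≫ r = p)
    [LocallyOfFinitePresentation (r ≫ q)] : LocallyOfFinitePresentation q := by
  have := locallyOfFiniteType_of_comp r q
  have := Lib.AlgSpMor.Cancel.locallyOfFinitePresentation_of_comp (f := s) (g := r)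
    (hs ▸ (inferInstance : LocallyOfFinitePresentation p)) this
  refine H14.FppfDesc.Scheme.locallyOfFinitePresentation_of_comp p q ?_
  rw [← hs, Category.assoc]; infer_instance

open AlgSp (Sp yon IsAlgSpace RepWith LocP Points)
open Groth.Agent.Lib.AlgSpace

variable {S : Scheme.{u}}

theorem locP_of_comp {P : MorphismProperty Scheme.{u}}
    (hdesc : ∀ {U U' E V : Scheme.{u}} (q : U ⟶ V) (p : U' ⟶ U), Flat p → Surjective p →
      LocallyOfFinitePresentation p → ∀ (r : E ⟶ U) (s : U' ⟶ E), s ≫ r = p → P (r ≫ q) → P q)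
    {X Y Z : Sp S} (hX : IsAlgSpace X) (hY : IsAlgSpace Y) {g : X ⟶ Y}
    [Sheaf.IsLocallySurjective g] {h : Y ⟶ Z} (hgh : LocP P (g ≫ h)) : LocP P h := by
  intro U V a b k ha hb w
  obtain ⟨U₁, p, l, hp, hl⟩ := exists_lift_of_isLocallySurjective g a
  obtain ⟨W, e, c, hc, hce, -, hfac⟩ := Source.exists_pieces (fun _ : PUnit.{u + 1} ↦ g) hY
    (fun _ ↦ hX) ha
  obtain ⟨U₂, t, s, ht, hts, hse⟩ := hfac ⟨⟩ U₁ p l hl
  have : Flat p.left := hp.1.2
  have : Surjective p.left := hp.1.1
  have : LocallyOfFinitePresentation p.left := hp.2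
  refine hdesc k.left (t ≫ p).left (by rw [Over.comp_left]; infer_instance)
    (by rw [Over.comp_left]; infer_instance) (by rw [Over.comp_left]; infer_instance)
    (e ⟨⟩).left s.left (by rw [← Over.comp_left, hse]) ?_
  exact hgh (c ⟨⟩) b (e ⟨⟩ ≫ k) (hc ⟨⟩) hb (by
    rw [← Category.assoc, hce, Category.assoc, w, Functor.map_comp, Category.assoc])

end Groth.Agent.Lib.AlgSpFpqc.LocSurjSource
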