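import Groth.Agent.Lib.AlgSpFpqc.SourceClasses

/-!
# Locality on the source of `LocP P` from locality of `P` on the source
-/

set_option autoImplicit false
set_option backward.isDefEq.respectTransparency false
set_option backward.isDefEq.respectTransparency.types false

universe u

open CategoryTheory CategoryTheory.Limits AlgebraicGeometry

namespace Groth.Agent.Lib.AlgSpFpqc.Local

open AlgSp (Sp IsAlgSpace LocP)

variable {S : Scheme.{u}} (P : MorphismProperty Scheme.{u})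

section

variable {L : MorphismProperty Scheme.{u}}

theorem comp_of_precoverage (hid : ∀ X : Scheme.{u}, L (𝟙 X))
    [P.IsLocalAtSource (Scheme.precoverage L)] {A B C : Scheme.{u}} (e : A ⟶ B) (k : B ⟶ C)
    (he : L e) (hk : P k) : P (e ≫ k) := by
  let X : ULift.{u} Bool → Scheme.{u} := fun b ↦ cond b.down A B
  let f : ∀ b, X b ⟶ B := fun ⟨b⟩ ↦ match b with
    | true => e
    | false => 𝟙 B
  have hR : Presieve.ofArrows X f ∈ Scheme.precoverage L B := by
    refine (Scheme.ofArrows_mem_precoverage_iff _).2 ⟨fun x ↦ ⟨⟨false⟩, x, rfl⟩, ?_⟩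
    rintro ⟨_ | _⟩
    · exact hid B
    · exact he
  exact MorphismProperty.IsLocalAtSource.comp hR e ⟨(⟨true⟩ : ULift.{u} Bool)⟩ hk

theorem desc_of_precoverage [P.IsLocalAtSource (Scheme.precoverage L)] {U V : Scheme.{u}}
    (k : U ⟶ V) {ι : Type u} (W : ι → Scheme.{u}) (e : ∀ i, W i ⟶ U) (hL : ∀ i, L (e i))
    (hs : ∀ x, ∃ i w, e i w = x) (hP : ∀ i, P (e i ≫ k)) : P k :=
  MorphismProperty.IsLocalAtSource.of_forall_comp
    ((Scheme.ofArrows_mem_precoverage_iff L).2 ⟨hs, hL⟩)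
    (by rintro _ _ ⟨i⟩; exact hP i)

theorem etaleDesc_of_precoverage (hEt : ∀ {A B : Scheme.{u}} (e : A ⟶ B), Etale e → L e)
    [P.IsLocalAtSource (Scheme.precoverage L)] {A B C : Scheme.{u}} (e : A ⟶ B) (k : B ⟶ C)
    (he : Etale e) (hs : Surjective e) (h : P (e ≫ k)) : P k :=
  desc_of_precoverage P k (fun _ : PUnit.{u + 1} ↦ A) (fun _ ↦ e) (fun _ ↦ hEt e he)
    (fun x ↦ ⟨⟨⟩, hs.1 x⟩) fun _ ↦ h

theorem isLocalOnSource {R : MorphismProperty (Sp S)}
    (hR : ∀ ⦃A B : Sp S⦄, IsAlgSpace A → IsAlgSpace B → ∀ g : A ⟶ B, R g → LocP L g)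
    (hid : ∀ X : Scheme.{u}, L (𝟙 X)) (hEt : ∀ {A B : Scheme.{u}} (e : A ⟶ B), Etale e → L e)
    [P.IsLocalAtSource (Scheme.precoverage L)] :
    AlgSp.IsLocalOnSource (fun _ _ Y g ↦ AlgSp.IsCover R Y g) (LocP P (S := S)) :=
  Source.isLocalOnSource hR (comp_of_precoverage P hid) (etaleDesc_of_precoverage P hEt)
    (desc_of_precoverage P)

end

theorem fppf (hP : P.IsLocalAtSource Scheme.fppfPrecoverage) :
    AlgSp.IsLocalOnSource (AlgSp.IsFppfCover (S := S)) (LocP P) := by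
  have : P.IsLocalAtSource (Scheme.precoverage
    ((@Flat : MorphismProperty Scheme.{u}) ⊓ @LocallyOfFinitePresentation)) := hP
  exact isLocalOnSource P SourceClasses.flatLfp_of_cover (fun _ ↦ ⟨inferInstance, inferInstance⟩)
    (fun e (_ : Etale e) ↦ ⟨inferInstance, inferInstance⟩)

theorem smooth (hP : P.IsLocalAtSource (Scheme.precoverage @Smooth)) :
    AlgSp.IsLocalOnSource (AlgSp.IsSmCover (S := S)) (LocP P) :=
  have := hP
  isLocalOnSource (L := @Smooth) P (fun _ _ _ _ _ h ↦ h) (fun _ ↦ inferInstance)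
    (fun e (_ : Etale e) ↦ inferInstance)

theorem etale (hP : P.IsLocalAtSource Scheme.etalePrecoverage) :
    AlgSp.IsLocalOnSource (AlgSp.IsEtCover (S := S)) (LocP P) := by
  have : P.IsLocalAtSource (Scheme.precoverage (@Etale : MorphismProperty Scheme.{u})) := hP
  exact isLocalOnSource (L := @Etale) P (fun _ _ hA hB g h ↦ (AlgStack.Source.isEtaleMor_iff hA hB g).1 h)
    (fun _ ↦ inferInstance) (fun _ he ↦ he)

theorem fpqc (hP : P.IsLocalAtSource Scheme.fpqcPrecoverage) :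
    AlgSp.IsLocalOnSource (AlgSp.IsFpqcCover (S := S)) (LocP P) := by
  have hfppf : P.IsLocalAtSource (Scheme.precoverage
      ((@Flat : MorphismProperty Scheme.{u}) ⊓ @LocallyOfFinitePresentation)) :=
    have := hP
    MorphismProperty.IsLocalAtSource.of_le (L := Scheme.fpqcPrecoverage)
      Scheme.fppfPrecoverage_le_fpqcPrecoverage
  refine Source.isLocalOnSource_fpqc (P := P) (fun {A B C} e k he hk ↦ ?_)
    (etaleDesc_of_precoverage (L := ((@Flat : MorphismProperty Scheme.{u}) ⊓ @LocallyOfFinitePresentation)) P (fun e (_ : Etale e) ↦ ⟨inferInstance, inferInstance⟩))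
    fun {U V} k {ι} W e hmem h ↦
      have := hP
      MorphismProperty.IsLocalAtSource.of_forall_comp hmem (by rintro _ _ ⟨i⟩; exact h i)
  let X : ULift.{u} Bool → Scheme.{u} := fun b ↦ cond b.down A B
  let f : ∀ b, X b ⟶ B := fun ⟨b⟩ ↦ match b with
    | true => e
    | false => 𝟙 B
  have hR : Presieve.ofArrows X f ∈ Scheme.fpqcPrecoverage B := by
    refine ⟨(Scheme.presieve₀_mem_qcPrecoverage_iff (E := PreZeroHypercover.mk _ X f)).2
      ⟨fun {O} hO ↦ .of_finite (fun _ : Unit ↦ (⟨false⟩ : ULift.{u} Bool)) (fun _ ↦ O)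
        (fun _ ↦ hO.isCompact) ?_⟩,
      (Scheme.ofArrows_mem_precoverage_iff _).2 ⟨fun x ↦ ⟨⟨false⟩, x, rfl⟩, ?_⟩⟩
    · exact (Set.iUnion_const _).trans (Set.image_id (O : Set ↥B))
    · rintro ⟨_ | _⟩
      · exact (inferInstance : Flat (𝟙 B))
      · exact he
  have := hP
  exact MorphismProperty.IsLocalAtSource.comp hR e ⟨(⟨true⟩ : ULift.{u} Bool)⟩ hk

end Groth.Agent.Lib.AlgSpFpqc.Local
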