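import Groth.Agent.Lib.AlgSpFpqc.Fppf
import Groth.Agent.Lib.AlgStack.Source
import Groth.Agent.Lib.AlgSpace.Props

/-!
# Properties local on the source-and-target
-/

set_option autoImplicit false
set_option backward.isDefEq.respectTransparency false
set_option backward.isDefEq.respectTransparency.types false

universe u

open CategoryTheory CategoryTheory.Limits AlgebraicGeometry

namespace Groth.Agent.Lib.AlgSpFpqc.ST

open AlgSp (Sp yon IsAlgSpace RepWith LocP Points IsEtaleMor)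
open Groth.Agent.Lib.AlgSpace

variable {S : Scheme.{u}}

theorem locP_id {Q : MorphismProperty Scheme.{u}} (hQ : SourceDescent.Scheme.EtaleLocalST Q)
    (X : Sp S) : LocP Q (𝟙 X) :=
  have := hQ.baseChange
  have : Q.ContainsIdentities := ⟨fun A ↦ hQ.etale (𝟙 A) inferInstance⟩
  Lib.AlgSpMor.LocP.locP_of_repWith hQ (repWith_of_isIso Q (𝟙 X))

theorem smooth_id (X : Sp S) : LocP @Smooth (𝟙 X) := locP_id SourceDescent.Scheme.smooth X

theorem etale_id {X : Sp S} (hX : IsAlgSpace X) : IsEtaleMor (𝟙 X) :=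
  (AlgStack.Source.isEtaleMor_iff hX hX _).2 (locP_id SourceDescent.Scheme.etale X)

theorem smooth_of_etale {X Y : Sp S} (hX : IsAlgSpace X) (hY : IsAlgSpace Y) {f : X ⟶ Y}
    (h : IsEtaleMor f) : LocP @Smooth f := fun _ _ a b k ha hb w ↦
  have : Etale k.left := (AlgStack.Source.isEtaleMor_iff hX hY f).1 h a b k ha hb w
  inferInstance

theorem points_map_id {X : Sp S} (x : Points X) : Points.map (𝟙 X) x = x := Points.map_id x

/-- An isomorphism square. -/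
theorem isPullback_id {X Y : Sp S} (f : X ⟶ Y) : IsPullback (𝟙 X) f f (𝟙 Y) := IsPullback.of_id_fst

section Cover

variable {R : MorphismProperty (Sp S)}

/-- The cover `{f, 𝟙}`. -/
theorem cover_pair {X Y : Sp S} (f : X ⟶ Y) (hf : R f) (hid : R (𝟙 Y)) :
    ∃ (Yi : ULift.{u} Bool → Sp S) (g : ∀ i, Yi i ⟶ Y) (i₀ : ULift.{u} Bool) (e : Yi i₀ = X),
      AlgSp.IsCover R Yi g ∧ (∀ i, Yi i = X ∨ Yi i = Y) ∧ g i₀ = eqToHom e ≫ f := by
  refine ⟨fun b ↦ cond b.down X Y, fun ⟨b⟩ ↦ match b with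
    | true => f
    | false => 𝟙 Y, ⟨true⟩, rfl, ⟨?_, fun y ↦ ⟨⟨false⟩, y, points_map_id y⟩⟩, ?_, by simp⟩
  · rintro ⟨_ | _⟩
    · exact hid
    · exact hf
  · rintro ⟨_ | _⟩
    · exact Or.inr rfl
    · exact Or.inl rfl

/-- Precomposition from locality on the source. -/
theorem precomp_of_source {P : MorphismProperty (Sp S)}
    (h1 : AlgSp.IsLocalOnSource (fun _ _ Y g ↦ AlgSp.IsCover R Y g) P) {X Y Z : Sp S}
    (hX : IsAlgSpace X) (hY : IsAlgSpace Y) (hZ : IsAlgSpace Z) {f : X ⟶ Y} {g : Y ⟶ Z}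
    (hf : R f) (hid : R (𝟙 Y)) (hg : P g) : P (f ≫ g) := by
  obtain ⟨Yi, gi, i₀, e, hc, hYi, he⟩ := cover_pair f hf hid
  subst e
  have := (h1 Yi gi hY (fun i ↦ (hYi i).elim (fun h ↦ h ▸ hX) (fun h ↦ h ▸ hY)) hc g hZ).1 hg i₀
  rwa [he, eqToHom_refl, Category.id_comp] at this

/-- Base change from locality on the base. -/
theorem baseChange_of_base {P : MorphismProperty (Sp S)}
    (h2 : AlgSp.IsLocalOnBase (fun _ _ Y g ↦ AlgSp.IsCover R Y g) P) {X Y X' Y' : Sp S}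
    (hX : IsAlgSpace X) (hY : IsAlgSpace Y) (hY' : IsAlgSpace Y') (hX' : IsAlgSpace X')
    {f : X ⟶ Y} {g : Y' ⟶ Y} {f' : X' ⟶ Y'} {g' : X' ⟶ X} (sq : IsPullback g' f' f g)
    (hg : R g) (hid : R (𝟙 Y)) (hf : P f) : P f' := by
  let Yi : ULift.{u} Bool → Sp S := fun b ↦ cond b.down Y' Y
  let Xi : ULift.{u} Bool → Sp S := fun b ↦ cond b.down X' X
  let gi : ∀ b, Yi b ⟶ Y := fun ⟨b⟩ ↦ match b with
    | true => g
    | false => 𝟙 Y
  let qi : ∀ b, Xi b ⟶ X := fun ⟨b⟩ ↦ match b with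
    | true => g'
    | false => 𝟙 X
  let pi : ∀ b, Xi b ⟶ Yi b := fun ⟨b⟩ ↦ match b with
    | true => f'
    | false => f
  have hc : AlgSp.IsCover R Yi gi :=
    ⟨by rintro ⟨_ | _⟩ <;> assumption, fun y ↦ ⟨⟨false⟩, y, points_map_id y⟩⟩
  exact (h2 Yi gi hY (by rintro ⟨_ | _⟩ <;> assumption) hc f hX Xi pi qi
    (by rintro ⟨_ | _⟩ <;> assumption)
    (by rintro ⟨_ | _⟩
        · exact isPullback_id f
        · exact sq)).1 hf ⟨true⟩

end Cover

/-! ### Smooth local on the source-and-target -/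

section Smooth

variable {P : MorphismProperty (Sp S)}

theorem source_of_smoothST (hP : AlgSp.IsSmoothLocalST P) :
    AlgSp.IsLocalOnSource (AlgSp.IsSmCover (S := S)) P := by
  intro ι X Xi g hX hXi hg Y f hY
  refine ⟨fun hf i ↦ hP.precomp (hXi i) hX hY _ _ (hg.1 i) hf, fun h ↦
    (hP.locality hX hY f).2 fun x ↦ ?_⟩
  obtain ⟨i, v, hv⟩ := hg.2 x
  exact ⟨Xi i, Y, g i, 𝟙 Y, g i ≫ f, v, hXi i, hY, hg.1 i, smooth_id Y,
    (Category.comp_id _).symm, hv, h i⟩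

theorem base_of_smoothST (hP : AlgSp.IsSmoothLocalST P) :
    AlgSp.IsLocalOnBase (AlgSp.IsSmCover (S := S)) P := by
  intro ι Y Yi g hY hYi hg X f hX Xi p q hXi sq
  refine ⟨fun hf i ↦ hP.baseChange hX hY (hXi i) (hYi i) f (g i) (p i) (q i) (sq i) (hg.1 i) hf,
    fun h ↦ (hP.locality hX hY f).2 fun x ↦ ?_⟩
  obtain ⟨i, y, hy⟩ := hg.2 (Points.map f x)
  obtain ⟨z, hz, -⟩ := exists_of_isPullback (sq i) x y hy.symm
  exact ⟨Xi i, Yi i, q i, g i, p i, z, hXi i, hYi i,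
    Lib.AlgSpMor.LocP.locP_of_isPullback SourceDescent.Scheme.smooth (hYi i) hY hX (sq i).flip
      (hg.1 i), hg.1 i, (sq i).w, hz, h i⟩

theorem postcomp_of_smoothST (hP : AlgSp.IsSmoothLocalST P) {X Y Z : Sp S} (hX : IsAlgSpace X)
    (hY : IsAlgSpace Y) (hZ : IsAlgSpace Z) {f : X ⟶ Y} {g : Y ⟶ Z} (hf : P f)
    (hg : LocP @Smooth g) : P (f ≫ g) :=
  (hP.locality hX hZ _).2 fun x ↦ ⟨X, Y, 𝟙 X, g, f, x, hX, hY, smooth_id X, hg,
    Category.id_comp _, points_map_id x, hf⟩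

theorem smoothST_of_local (h1 : AlgSp.IsLocalOnSource (AlgSp.IsSmCover (S := S)) P)
    (h2 : AlgSp.IsLocalOnBase (AlgSp.IsSmCover (S := S)) P)
    (h3 : ∀ ⦃X Y Z : Sp S⦄, IsAlgSpace X → IsAlgSpace Y → IsAlgSpace Z → ∀ (f : X ⟶ Y) (g : Y ⟶ Z),
      P f → LocP @Smooth g → P (f ≫ g)) : AlgSp.IsSmoothLocalST P where
  precomp _ Y _ hX hY hZ _ _ hf hg := precomp_of_source h1 hX hY hZ hf (smooth_id Y) hg
  baseChange _ Y _ _ hX hY hX' hY' _ _ _ _ sq hg hf :=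
    baseChange_of_base h2 hX hY hY' hX' sq hg (smooth_id Y) hf
  locality X Y hX hY f := by
    refine ⟨fun hf x ↦ ⟨X, Y, 𝟙 X, 𝟙 Y, f, x, hX, hY, smooth_id X, smooth_id Y, by simp,
      points_map_id x, hf⟩, fun h ↦ ?_⟩
    obtain ⟨A, c, -, hcs⟩ := hX.atlas
    choose U V a b k v hU hV ha hb w hv hk using fun z : ↥A.left ↦ h (Points.ofPt c z)
    refine (h1 U a hX hU ⟨ha, fun x ↦ ?_⟩ f hY).2 fun z ↦ ?_
    · obtain ⟨z, rfl⟩ := surjective_ofPt hcs x
      exact ⟨z, v z, hv z⟩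
    · rw [w z]
      exact h3 (hU z) (hV z) hY (k z) (b z) (hk z) (hb z)

end Smooth

/-! ### Etale-smooth local on the source-and-target -/

section EtaleSmooth

variable {P : MorphismProperty (Sp S)}

theorem source_of_etST (hP : AlgSp.IsEtaleSmoothLocalST P) :
    AlgSp.IsLocalOnSource (AlgSp.IsEtCover (S := S)) P := by
  intro ι X Xi g hX hXi hg Y f hY
  refine ⟨fun hf i ↦ hP.precomp (hXi i) hX hY _ _ (hg.1 i) hf, fun h ↦
    (hP.locality hX hY f).2 fun x ↦ ?_⟩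
  obtain ⟨i, v, hv⟩ := hg.2 x
  exact ⟨Y, X, Xi i, 𝟙 Y, 𝟙 X, f, g i, v, hY, hX, hXi i, smooth_id Y, isPullback_id f, hg.1 i,
    by rw [Category.comp_id]; exact hv, h i⟩

theorem base_of_etST (hP : AlgSp.IsEtaleSmoothLocalST P) :
    AlgSp.IsLocalOnBase (AlgSp.IsSmCover (S := S)) P := by
  intro ι Y Yi g hY hYi hg X f hX Xi p q hXi sq
  refine ⟨fun hf i ↦ hP.baseChange hX hY (hXi i) (hYi i) f (g i) (p i) (q i) (sq i) (hg.1 i) hf,
    fun h ↦ (hP.locality hX hY f).2 fun x ↦ ?_⟩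
  obtain ⟨i, y, hy⟩ := hg.2 (Points.map f x)
  obtain ⟨z, hz, -⟩ := exists_of_isPullback (sq i) x y hy.symm
  exact ⟨Yi i, Xi i, Xi i, g i, q i, p i, 𝟙 _, z, hYi i, hXi i, hXi i, hg.1 i, sq i,
    etale_id (hXi i), by rw [Category.id_comp]; exact hz, by rw [Category.id_comp]; exact h i⟩

/-- The graph of a morphism over an etale target is etale. -/
theorem etale_graph {X Y Z : Sp S} (hX : IsAlgSpace X) (hY : IsAlgSpace Y) (hZ : IsAlgSpace Z)
    (f : X ⟶ Y) {g : Y ⟶ Z} (hg : IsEtaleMor g) :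
    IsEtaleMor (pullback.lift (𝟙 X) f (by rw [Category.id_comp]) : X ⟶ pullback (f ≫ g) g) := by
  have hW : IsAlgSpace (pullback (f ≫ g) g) :=
    isAlgSpace_of_isPullback (IsPullback.of_hasPullback _ _) hZ.diag hX hY
  have hg' := (AlgStack.Source.isEtaleMor_iff hY hZ g).1 hg
  have hp : LocP @Etale (pullback.fst (f ≫ g) g) :=
    Lib.AlgSpMor.LocP.locP_of_isPullback SourceDescent.Scheme.etale hY hZ hX
      (IsPullback.of_hasPullback (f ≫ g) g).flip hg'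
  refine (AlgStack.Source.isEtaleMor_iff hX hW _).2
    (Lib.AlgSpMor.LocP.locP_of_comp (P := @Etale) (R := @Etale) SourceDescent.Scheme.etale
      (fun a b (_ : Etale (a ≫ b)) (_ : Etale b) ↦ Etale.of_comp a b) hX hW hX ?_ hp)
  rw [pullback.lift_fst]
  exact locP_id SourceDescent.Scheme.etale X

theorem postcomp_of_etST (hP : AlgSp.IsEtaleSmoothLocalST P) {X Y Z : Sp S} (hX : IsAlgSpace X)
    (hY : IsAlgSpace Y) (hZ : IsAlgSpace Z) {f : X ⟶ Y} {g : Y ⟶ Z} (hf : P f)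
    (hg : IsEtaleMor g) : P (f ≫ g) :=
  (hP.locality hX hZ _).2 fun x ↦ ⟨Y, _, X, g, _, _,
    pullback.lift (𝟙 X) f (by rw [Category.id_comp]), x, hY,
    isAlgSpace_of_isPullback (IsPullback.of_hasPullback (f ≫ g) g) hZ.diag hX hY, hX,
    smooth_of_etale hY hZ hg, IsPullback.of_hasPullback (f ≫ g) g, etale_graph hX hY hZ f hg,
    by rw [pullback.lift_fst]; exact points_map_id x, by rw [pullback.lift_snd]; exact hf⟩

theorem cancel_of_etST (hP : AlgSp.IsEtaleSmoothLocalST P) {X Y Z : Sp S} (hX : IsAlgSpace X)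
    (hY : IsAlgSpace Y) (hZ : IsAlgSpace Z) {f : X ⟶ Y} {g : Y ⟶ Z} (hg : IsEtaleMor g)
    (hfg : P (f ≫ g)) : P f := by
  have sq := IsPullback.of_hasPullback (f ≫ g) g
  have hW : IsAlgSpace (pullback (f ≫ g) g) := isAlgSpace_of_isPullback sq hZ.diag hX hY
  have hq := hP.baseChange hX hZ hW hY (f ≫ g) g _ _ sq (smooth_of_etale hY hZ hg) hfg
  have := hP.precomp hX hW hY _ _ (etale_graph hX hY hZ f hg) hq
  rwa [pullback.lift_snd] at this

end EtaleSmooth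

end Groth.Agent.Lib.AlgSpFpqc.ST
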