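import Groth.Agent.Lib.AlgSpFpqc.Source
import Groth.Agent.Lib.EtaleSection.Sections
import Groth.Agent.Lib.AlgStack.Source

/-!
# Smooth coverings are refined by etale coverings
-/

set_option autoImplicit false
set_option backward.isDefEq.respectTransparency false
set_option backward.isDefEq.respectTransparency.types false

universe u

open CategoryTheory CategoryTheory.Limits AlgebraicGeometry

namespace Groth.Agent.Lib.AlgSpFpqc.SmoothRefine

open AlgSp (Sp yon IsAlgSpace RepWith LocP Points)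
open Groth.Agent.Lib.AlgSpace

variable {S : Scheme.{u}}

theorem exists_etale_refinement {ι : Type u} {X : Sp S} {Xi : ι → Sp S} {g : ∀ i, Xi i ⟶ X}
    (hX : IsAlgSpace X) (hXi : ∀ i, IsAlgSpace (Xi i)) (hg : AlgSp.IsSmCover Xi g) :
    ∃ (T : ι → Over S) (c : ∀ i, (yon S).obj (T i) ⟶ X) (r : ∀ i, (yon S).obj (T i) ⟶ Xi i),
      AlgSp.IsEtCover (fun i ↦ (yon S).obj (T i)) c ∧ ∀ i, r i ≫ g i = c i := by
  obtain ⟨U, a, ha, has⟩ := hX.atlas
  obtain ⟨W, e, c, hc, hce, hsurj, -⟩ := Source.exists_pieces g hX hXi ha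
  have hsm : ∀ i, Smooth (e i).left := fun i ↦ hg.1 i (c i) a (e i) (hc i) ha (hce i)
  let E : (∐ fun i ↦ (W i).left) ⟶ U.left := Sigma.desc fun i ↦ (e i).left
  have hE : Smooth E := IsZariskiLocalAtSource.sigmaDesc (P := @Smooth) hsm
  have hEs : Surjective E := ⟨fun u ↦ by
    obtain ⟨i, x, hx⟩ := hg.2 (Points.ofPt a u)
    obtain ⟨w, rfl⟩ := hsurj i x u hx
    exact ⟨Sigma.ι (fun i ↦ (W i).left) i w, by simp [E, ← Scheme.Hom.comp_apply]⟩⟩
  obtain ⟨U', t, h, ht, hts, hht⟩ := EtaleSection.Sections.exists_etale_surjective_section E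
  let incl : ∀ i, pullback h (Sigma.ι (fun i ↦ (W i).left) i) ⟶ U.left := fun i ↦
    pullback.fst h _ ≫ t
  let T : ι → Over S := fun i ↦ Over.mk (incl i ≫ U.hom)
  let j : ∀ i, T i ⟶ U := fun i ↦ Over.homMk (incl i)
  have hjW : ∀ i, pullback.snd h (Sigma.ι (fun i ↦ (W i).left) i) ≫ (e i).left = incl i := fun i ↦ by
    rw [show (e i).left = Sigma.ι (fun i ↦ (W i).left) i ≫ E from (Sigma.ι_desc (fun i ↦ (e i).left) i).symm,
      ← reassoc_of% pullback.condition (f := h), hht]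
  let r : ∀ i, T i ⟶ W i := fun i ↦ Over.homMk (pullback.snd h (Sigma.ι (fun i ↦ (W i).left) i))
    (by
      change _ ≫ (W i).hom = incl i ≫ U.hom
      rw [← hjW, Category.assoc, Over.w])
  have hr : ∀ i, r i ≫ e i = j i := fun i ↦ Over.OverMorphism.ext (hjW i)
  have hj : ∀ i, Etale (j i).left := fun i ↦
    inferInstanceAs (Etale (pullback.fst h (Sigma.ι (fun i ↦ (W i).left) i) ≫ t))
  refine ⟨T, fun i ↦ (yon S).map (j i) ≫ a, fun i ↦ (yon S).map (r i) ≫ c i, ⟨fun i ↦ ?_, fun x ↦ ?_⟩,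
    fun i ↦ by rw [Category.assoc, hce, ← Functor.map_comp_assoc, hr]⟩
  · exact (AlgStack.Source.isEtaleMor_iff (IsAlgSpace.yon_obj _) hX _).2
      (Lib.AlgSpMor.LocP.locP_of_repWith SourceDescent.Scheme.etale
        (have := hj i; Lib.AlgSpMor.LocP.repWith_etale_comp (j i) ha))
  · obtain ⟨v, rfl⟩ := surjective_ofPt has x
    obtain ⟨u', rfl⟩ := t.surjective v
    obtain ⟨i, w, hw⟩ := (sigmaOpenCover fun i ↦ (W i).left).exists_eq (h u')
    obtain ⟨z, hz, -⟩ := Scheme.Pullback.exists_preimage_pullback (f := h)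
      (g := Sigma.ι (fun i ↦ (W i).left) i) u' w hw.symm
    refine ⟨i, Points.ofScheme (T i) z, ?_⟩
    rw [← Points.ofPt_eq_map_ofScheme, ofPt_yon_map_comp]
    exact congrArg (Points.ofPt a) (show t (pullback.fst h _ z) = t u' by rw [hz])

end Groth.Agent.Lib.AlgSpFpqc.SmoothRefine
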