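import Mathlib.AlgebraicGeometry.Sites.Fpqc
import Mathlib.AlgebraicGeometry.Sites.Etale
import Groth.Agent.Lib.AlgSpFpqc.Cover
import Groth.Agent.Lib.AlgSpMor.LocP
import Groth.Agent.Lib.AlgSpace.Points

/-!
# `LocP P` is local on the source

For a property `P` of morphisms of schemes compatible with composition by a class `L` of morphisms
on the source and descending along the corresponding coverings of the source.
-/

set_option autoImplicit false
set_option backward.isDefEq.respectTransparency false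
set_option backward.isDefEq.respectTransparency.types false

universe u

open CategoryTheory CategoryTheory.Limits AlgebraicGeometry

namespace Groth.Agent.Lib.AlgSpFpqc.Source

open AlgSp (Sp yon IsAlgSpace RepWith LocP Points)
open Groth.Agent.Lib.AlgSpace

variable {S : Scheme.{u}}

theorem locP_inf {P Q : MorphismProperty Scheme.{u}} {X Y : Sp S} {f : X ⟶ Y} :
    LocP (P ⊓ Q) f ↔ LocP P f ∧ LocP Q f :=
  ⟨fun h ↦ ⟨fun _ _ a b k ha hb w ↦ (h a b k ha hb w).1, fun _ _ a b k ha hb w ↦ (h a b k ha hb w).2⟩,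
    fun h _ _ a b k ha hb w ↦ ⟨h.1 a b k ha hb w, h.2 a b k ha hb w⟩⟩

/-- Composition with a morphism which is locally in `L` on the source preserves `LocP P`. -/
theorem locP_comp_left {L P : MorphismProperty Scheme.{u}}
    (hcomp : ∀ {A B C : Scheme.{u}} (e : A ⟶ B) (k : B ⟶ C), L e → P k → P (e ≫ k))
    (hEt : ∀ {A B C : Scheme.{u}} (e : A ⟶ B) (k : B ⟶ C), Etale e → Surjective e → P (e ≫ k) → P k)
    {W X Y : Sp S} (hX : IsAlgSpace X) (hY : IsAlgSpace Y) {g : W ⟶ X} {f : X ⟶ Y}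
    (hg : LocP L g) (hf : LocP P f) : LocP P (g ≫ f) := by
  intro U V a b h ha hb w
  have sq := IsPullback.of_hasPullback f b
  have hQ : IsAlgSpace (pullback f b) :=
    isAlgSpace_of_isPullback sq hY.diag hX (IsAlgSpace.yon_obj V)
  obtain ⟨T, c, hc, hcs⟩ := hQ.atlas
  let φ : (yon S).obj U ⟶ pullback f b :=
    sq.lift (a ≫ g) ((yon S).map h) (by rw [Category.assoc]; exact w)
  obtain ⟨R, p, r, sqR⟩ := exists_isPullback_yon hQ.diag φ c
  have hpe : Etale p.left := repWith_property hc sqR.flip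
  have hps : Surjective p.left := repWith_property hcs sqR.flip
  obtain ⟨m, hm⟩ := (yon S).map_surjective (c ≫ pullback.snd f b)
  have hrm : p ≫ h = r ≫ m := by
    apply (yon S).map_injective
    rw [Functor.map_comp, Functor.map_comp, hm, ← Category.assoc, ← sqR.w, Category.assoc]
    simp [φ]
  have : MorphismProperty.IsStableUnderComposition (@Etale : MorphismProperty Scheme.{u}) :=
    ⟨fun f g (_ : Etale f) (_ : Etale g) ↦ inferInstanceAs (Etale (f ≫ g))⟩
  have hcX : RepWith @Etale (c ≫ pullback.fst f b) :=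
    repWith_comp hc (repWith_baseChange sq.flip hb)
  have h1 : L r.left := by
    refine hg ((yon S).map p ≫ a) (c ≫ pullback.fst f b) r
      (Lib.AlgSpMor.LocP.repWith_etale_comp p ha) hcX ?_
    rw [← Category.assoc ((yon S).map r), ← sqR.w]
    simp [φ]
  have h2 : P m.left :=
    hf (c ≫ pullback.fst f b) b m hcX hb (by rw [Category.assoc, sq.w, hm, Category.assoc])
  refine hEt p.left h.left hpe hps ?_
  rw [← Over.comp_left, hrm, Over.comp_left]
  exact hcomp _ _ h1 h2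

/-- Charts of the members of a family over a chart of the common target. -/
theorem exists_pieces {ι : Type u} {X : Sp S} {Xi : ι → Sp S} (g : ∀ i, Xi i ⟶ X)
    (hX : IsAlgSpace X) (hXi : ∀ i, IsAlgSpace (Xi i)) {U : Over S} {a : (yon S).obj U ⟶ X}
    (ha : RepWith @Etale a) :
    ∃ (W : ι → Over S) (e : ∀ i, W i ⟶ U) (c : ∀ i, (yon S).obj (W i) ⟶ Xi i),
      (∀ i, RepWith @Etale (c i)) ∧ (∀ i, c i ≫ g i = (yon S).map (e i) ≫ a) ∧
      (∀ i (x : Points (Xi i)) (u : ↥U.left), Points.map (g i) x = Points.ofPt a u →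
        ∃ w : ↥(W i).left, (e i).left w = u) ∧
      ∀ i (T : Over S) (s : T ⟶ U) (l : (yon S).obj T ⟶ Xi i),
        l ≫ g i = (yon S).map s ≫ a →
        ∃ (T' : Over S) (t : T' ⟶ T) (r : T' ⟶ W i), Etale t.left ∧ Surjective t.left ∧
          r ≫ e i = t ≫ s := by
  have hQ : ∀ i, IsAlgSpace (pullback (g i) a) := fun i ↦
    isAlgSpace_of_isPullback (IsPullback.of_hasPullback (g i) a) hX.diag (hXi i)
      (IsAlgSpace.yon_obj U)
  choose W d hd hds using fun i ↦ (hQ i).atlas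
  choose e he using fun i ↦ (yon S).map_surjective (d i ≫ pullback.snd (g i) a)
  have : MorphismProperty.IsStableUnderComposition (@Etale : MorphismProperty Scheme.{u}) :=
    ⟨fun f g (_ : Etale f) (_ : Etale g) ↦ inferInstanceAs (Etale (f ≫ g))⟩
  refine ⟨W, e, fun i ↦ d i ≫ pullback.fst (g i) a,
    fun i ↦ repWith_comp (hd i) (repWith_baseChange (IsPullback.of_hasPullback (g i) a).flip ha),
    fun i ↦ by rw [Category.assoc, pullback.condition, he, Category.assoc],
    fun i x u hxu ↦ ?_, fun i T s l hl ↦ ?_⟩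
  · obtain ⟨z, -, hz⟩ := exists_of_isPullback (IsPullback.of_hasPullback (g i) a) x
      (Points.ofScheme U u) (hxu.trans (Points.ofPt_eq_map_ofScheme a u))
    obtain ⟨w, rfl⟩ := surjective_ofPt (hds i) z
    refine ⟨w, (Points.schemeEquiv U).injective ?_⟩
    show Points.ofScheme U _ = Points.ofScheme U u
    rw [← hz, Points.map_ofPt, ← he, ← Category.comp_id ((yon S).map (e i)), ofPt_yon_map_comp]
  · let φ : (yon S).obj T ⟶ pullback (g i) a := pullback.lift l ((yon S).map s) hl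
    obtain ⟨T', t, r, sqT⟩ := exists_isPullback_yon (hQ i).diag φ (d i)
    refine ⟨T', t, r, repWith_property (hd i) sqT.flip, repWith_property (hds i) sqT.flip, ?_⟩
    apply (yon S).map_injective
    rw [Functor.map_comp, Functor.map_comp, he, ← Category.assoc, ← sqT.w, Category.assoc]
    simp [φ]

/-- Descent of `LocP P` along a family covering on points. -/
theorem locP_of_cover {L P : MorphismProperty Scheme.{u}}
    (hdesc : ∀ {U V : Scheme.{u}} (k : U ⟶ V) {ι : Type u} (W : ι → Scheme.{u})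
      (e : ∀ i, W i ⟶ U), (∀ i, L (e i)) → (∀ x, ∃ i w, e i w = x) → (∀ i, P (e i ≫ k)) → P k)
    {ι : Type u} {X Y : Sp S} {Xi : ι → Sp S} {g : ∀ i, Xi i ⟶ X} (hX : IsAlgSpace X)
    (hXi : ∀ i, IsAlgSpace (Xi i)) (hg : ∀ i, LocP L (g i))
    (hgs : ∀ x : Points X, ∃ i, x ∈ Set.range (Points.map (g i))) {f : X ⟶ Y}
    (h : ∀ i, LocP P (g i ≫ f)) : LocP P f := by
  intro U V a b k ha hb w
  obtain ⟨W, e, c, hc, hce, hsurj, -⟩ := exists_pieces g hX hXi ha
  refine hdesc k.left (fun i ↦ (W i).left) (fun i ↦ (e i).left)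
    (fun i ↦ hg i (c i) a (e i) (hc i) ha (hce i)) (fun u ↦ ?_) fun i ↦ ?_
  · obtain ⟨i, x, hx⟩ := hgs (Points.ofPt a u)
    obtain ⟨z, hz⟩ := hsurj i x u hx
    exact ⟨i, z, hz⟩
  · exact h i (c i) b (e i ≫ k) (hc i) hb (by
      rw [← Category.assoc, hce, Category.assoc, w, Functor.map_comp, Category.assoc])

/-- Descent of `LocP P` along an fpqc covering. -/
theorem locP_of_fpqc {P : MorphismProperty Scheme.{u}}
    (hdesc : ∀ {U V : Scheme.{u}} (k : U ⟶ V) {ι : Type u} (W : ι → Scheme.{u})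
      (e : ∀ i, W i ⟶ U), Presieve.ofArrows W e ∈ Scheme.fpqcPrecoverage U →
      (∀ i, P (e i ≫ k)) → P k)
    {ι : Type u} {X Y : Sp S} {Xi : ι → Sp S} {g : ∀ i, Xi i ⟶ X} (hX : IsAlgSpace X)
    (hXi : ∀ i, IsAlgSpace (Xi i)) (hg : AlgSp.IsFpqcCover Xi g) {f : X ⟶ Y}
    (h : ∀ i, LocP P (g i ≫ f)) : LocP P f := by
  intro U V a b k ha hb w
  obtain ⟨W, e, c, hc, hce, -, hlift⟩ := exists_pieces g hX hXi ha
  have hqc : ∀ (O : U.left.Opens), IsAffineOpen O → ∃ (m : ℕ) (i : Fin m → ι)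
      (K : ∀ j, (W (i j)).left.Opens), (∀ j, IsCompact (K j : Set ↥(W (i j)).left)) ∧
      ⋃ j, (e (i j)).left '' (K j : Set ↥(W (i j)).left) = (O : Set ↥U.left) := by
    intro O hO
    let Z : Over S := Over.mk (O.ι ≫ U.hom)
    let o : Z ⟶ U := Over.homMk O.ι
    obtain ⟨m, T, q, hTa, -, hTs, hl⟩ := hg.2 Z hO ((yon S).map o ≫ a)
    choose i l hli using hl
    choose T' t r hte hts hr using fun j ↦ hlift (i j) (T j) (q j ≫ o) (l j)
      (by rw [hli, Functor.map_comp, Category.assoc])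
    have hsub : ∀ j, Set.range (r j).left ⊆ (e (i j)).left ⁻¹' (O : Set ↥U.left) := by
      rintro j _ ⟨z, rfl⟩
      rw [Set.mem_preimage, ← Scheme.Hom.comp_apply, ← Over.comp_left, hr]
      exact ((t j ≫ q j).left z).2
    have hK : ∀ j, ∃ K : (W (i j)).left.Opens, IsCompact (K : Set ↥(W (i j)).left) ∧
        (K : Set ↥(W (i j)).left) ⊆ (e (i j)).left ⁻¹' (O : Set ↥U.left) ∧
        (t j).left '' ((r j).left ⁻¹' (K : Set ↥(W (i j)).left)) = Set.univ := by
      intro j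
      have := hTa j; have := hte j; have := hts j
      obtain ⟨C, hC, hCu⟩ := (t j).left.isOpenMap.exists_opens_image_eq_of_prespectralSpace
        (t j).left.continuous (U := Set.univ) (by simp [(t j).left.surjective.range_eq])
        isOpen_univ isCompact_univ
      have hsub' : (r j).left '' (C : Set ↥(T' j).left) ⊆ (e (i j)).left ⁻¹' (O : Set ↥U.left) :=
        (Set.image_subset_range _ _).trans (hsub j)
      obtain ⟨K, hKc, hKo, hK1, hK2⟩ := PrespectralSpace.exists_isCompact_and_isOpen_between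
        (hC.image (r j).left.continuous) ((O.2).preimage (e (i j)).left.continuous) hsub'
      refine ⟨⟨K, hKo⟩, hKc, hK2, ?_⟩
      refine Set.eq_univ_of_forall fun z ↦ ?_
      obtain ⟨y, hy, rfl⟩ : z ∈ (t j).left '' (C : Set ↥(T' j).left) := by rw [hCu]; trivial
      exact ⟨y, hK1 ⟨y, hy, rfl⟩, rfl⟩
    choose K hKc hKsub hKt using hK
    refine ⟨m, i, K, hKc, Set.Subset.antisymm ?_ fun x hx ↦ ?_⟩
    · exact Set.iUnion_subset fun j ↦ Set.image_subset_iff.2 (hKsub j)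
    · obtain ⟨j, y, hy⟩ := hTs ⟨x, hx⟩
      obtain ⟨z, hz, rfl⟩ : y ∈ (t j).left '' ((r j).left ⁻¹' (K j : Set ↥(W (i j)).left)) := by
        rw [hKt]; trivial
      refine Set.mem_iUnion.2 ⟨j, _, hz, ?_⟩
      rw [← Scheme.Hom.comp_apply, ← Over.comp_left, hr, Over.comp_left, Scheme.Hom.comp_apply,
        Over.comp_left, Scheme.Hom.comp_apply, hy]
      rfl
  refine hdesc k.left (fun i ↦ (W i).left) (fun i ↦ (e i).left) ⟨?_, ?_⟩ fun i ↦ ?_
  · refine (Scheme.presieve₀_mem_qcPrecoverage_iff (E := PreZeroHypercover.mk ι _ _)).2 ⟨fun {O} hO ↦ ?_⟩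
    obtain ⟨m, i, K, hKc, hKu⟩ := hqc O hO
    exact .of_finite i K hKc hKu
  · refine (Scheme.ofArrows_mem_precoverage_iff _).2
      ⟨fun u ↦ ?_, fun i ↦ hg.1 i (c i) a (e i) (hc i) ha (hce i)⟩
    obtain ⟨O, hO, hu, -⟩ := exists_isAffineOpen_mem_and_subset (U := ⊤) (Set.mem_univ u)
    obtain ⟨m, i, K, -, hKu⟩ := hqc O hO
    have hu' : u ∈ (O : Set ↥U.left) := hu
    rw [← hKu] at hu'
    obtain ⟨j, z, -, hz⟩ := Set.mem_iUnion.1 hu'
    exact ⟨i j, z, hz⟩
  · exact h i (c i) b (e i ≫ k) (hc i) hb (by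
      rw [← Category.assoc, hce, Category.assoc, w, Functor.map_comp, Category.assoc])

/-- Locality on the source for `AlgSp.IsCover`. -/
theorem isLocalOnSource {L P : MorphismProperty Scheme.{u}} {R : MorphismProperty (Sp S)}
    (hR : ∀ ⦃A B : Sp S⦄, IsAlgSpace A → IsAlgSpace B → ∀ g : A ⟶ B, R g → LocP L g)
    (hcomp : ∀ {A B C : Scheme.{u}} (e : A ⟶ B) (k : B ⟶ C), L e → P k → P (e ≫ k))
    (hEt : ∀ {A B C : Scheme.{u}} (e : A ⟶ B) (k : B ⟶ C), Etale e → Surjective e → P (e ≫ k) → P k)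
    (hdesc : ∀ {U V : Scheme.{u}} (k : U ⟶ V) {ι : Type u} (W : ι → Scheme.{u})
      (e : ∀ i, W i ⟶ U), (∀ i, L (e i)) → (∀ x, ∃ i w, e i w = x) → (∀ i, P (e i ≫ k)) → P k) :
    AlgSp.IsLocalOnSource (fun _ _ Y g ↦ AlgSp.IsCover R Y g) (LocP P (S := S)) :=
  fun _ _ _ _ hX hXi hg _ _ hY ↦
    ⟨fun hf i ↦ locP_comp_left hcomp hEt hX hY (hR (hXi i) hX _ (hg.1 i)) hf,
      fun h ↦ locP_of_cover hdesc hX hXi (fun i ↦ hR (hXi i) hX _ (hg.1 i)) hg.2 h⟩

/-- Locality on the source for fpqc coverings. -/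
theorem isLocalOnSource_fpqc {P : MorphismProperty Scheme.{u}}
    (hcomp : ∀ {A B C : Scheme.{u}} (e : A ⟶ B) (k : B ⟶ C), Flat e → P k → P (e ≫ k))
    (hEt : ∀ {A B C : Scheme.{u}} (e : A ⟶ B) (k : B ⟶ C), Etale e → Surjective e → P (e ≫ k) → P k)
    (hdesc : ∀ {U V : Scheme.{u}} (k : U ⟶ V) {ι : Type u} (W : ι → Scheme.{u})
      (e : ∀ i, W i ⟶ U), Presieve.ofArrows W e ∈ Scheme.fpqcPrecoverage U →
      (∀ i, P (e i ≫ k)) → P k) :
    AlgSp.IsLocalOnSource (AlgSp.IsFpqcCover (S := S)) (LocP P) :=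
  fun _ _ _ _ hX hXi hg _ _ hY ↦
    ⟨fun hf i ↦ locP_comp_left hcomp hEt hX hY (hg.1 i) hf,
      fun h ↦ locP_of_fpqc hdesc hX hXi hg h⟩

end Groth.Agent.Lib.AlgSpFpqc.Source
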