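import Groth.Agent.Lib.AlgSpFpqc.Source
import Groth.Agent.Lib.Flat55.FlatDescend
import Groth.Agent.H14.FppfDesc.Scheme
import Groth.Agent.Lib.AlgStack.Source

/-!
# Hypotheses of the source locality criterion for the standard classes
-/

set_option autoImplicit false
set_option backward.isDefEq.respectTransparency false
set_option backward.isDefEq.respectTransparency.types false

universe u

open CategoryTheory CategoryTheory.Limits AlgebraicGeometry

namespace Groth.Agent.Lib.AlgSpFpqc.SourceClasses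

open AlgSp (Sp IsAlgSpace LocP)

variable {S : Scheme.{u}}

theorem flat_fpqc : AlgSp.IsLocalOnSource (AlgSp.IsFpqcCover (S := S)) (LocP @Flat) := by
  refine Source.isLocalOnSource_fpqc (P := @Flat)
    (fun e k (_ : Flat e) (_ : Flat k) ↦ inferInstanceAs (Flat (e ≫ k)))
    (fun e k he hs h ↦ SourceDescent.Scheme.flat.descends e k he hs h) fun {U V} k {ι} W e hmem h ↦ ?_
  obtain ⟨hs, hf⟩ := (Scheme.ofArrows_mem_precoverage_iff _).1 hmem.2
  refine Flat.of_stalkMap k fun x ↦ ?_
  obtain ⟨i, w, rfl⟩ := hs x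
  have := hf i; have := h i
  exact Flat55.FlatDescend.flat_stalkMap_of_comp (e i) k w (Flat.stalkMap (e i) w)
    (Flat.stalkMap (e i ≫ k) w)

/-- Reduction of descent along a jointly surjective family to descent along one surjection. -/
theorem desc_of_single {L P : MorphismProperty Scheme.{u}} [IsZariskiLocalAtSource L]
    [IsZariskiLocalAtSource P]
    (h : ∀ {A B C : Scheme.{u}} (e : A ⟶ B) (k : B ⟶ C), L e → Surjective e → P (e ≫ k) → P k)
    {U V : Scheme.{u}} (k : U ⟶ V) {ι : Type u} (W : ι → Scheme.{u}) (e : ∀ i, W i ⟶ U)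
    (hL : ∀ i, L (e i)) (hs : ∀ x, ∃ i w, e i w = x) (hP : ∀ i, P (e i ≫ k)) : P k := by
  refine h (Sigma.desc e) k (IsZariskiLocalAtSource.sigmaDesc hL) ⟨fun x ↦ ?_⟩ ?_
  · obtain ⟨i, w, rfl⟩ := hs x
    refine ⟨Sigma.ι W i w, ?_⟩
    rw [← Scheme.Hom.comp_apply, Sigma.ι_desc]
  · rw [show Sigma.desc e ≫ k = Sigma.desc fun i ↦ e i ≫ k from Sigma.hom_ext _ _ fun i ↦ by simp]
    exact IsZariskiLocalAtSource.sigmaDesc hP

theorem flatLfp_of_cover ⦃A B : Sp S⦄ (_ : IsAlgSpace A) (_ : IsAlgSpace B) (g : A ⟶ B)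
    (h : LocP @Flat g ∧ LocP @LocallyOfFinitePresentation g) :
    LocP ((@Flat : MorphismProperty Scheme.{u}) ⊓ @LocallyOfFinitePresentation) g :=
  Source.locP_inf.2 h

theorem lfp_fppf :
    AlgSp.IsLocalOnSource (AlgSp.IsFppfCover (S := S)) (LocP @LocallyOfFinitePresentation) := by
  refine Source.isLocalOnSource flatLfp_of_cover
    (fun e k (he : Flat e ∧ LocallyOfFinitePresentation e) (_ : LocallyOfFinitePresentation k) ↦
      have := he.2; inferInstanceAs (LocallyOfFinitePresentation (e ≫ k)))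
    (fun e k he hs h ↦ SourceDescent.Scheme.locallyOfFinitePresentation.descends e k he hs h)
    (desc_of_single fun e k he hs h ↦ ?_)
  have := he.1; have := he.2
  exact H14.FppfDesc.Scheme.locallyOfFinitePresentation_of_comp e k h

theorem lft_fppf :
    AlgSp.IsLocalOnSource (AlgSp.IsFppfCover (S := S)) (LocP @LocallyOfFiniteType) := by
  refine Source.isLocalOnSource flatLfp_of_cover
    (fun e k (he : Flat e ∧ LocallyOfFinitePresentation e) (_ : LocallyOfFiniteType k) ↦
      have := he.2; inferInstanceAs (LocallyOfFiniteType (e ≫ k)))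
    (fun e k he hs h ↦ SourceDescent.Scheme.locallyOfFiniteType.descends e k he hs h)
    (desc_of_single fun e k he hs h ↦ ?_)
  have := he.1; have := he.2
  exact H14.FppfDesc.Scheme.locallyOfFiniteType_of_comp e k h

theorem smooth_sm :
    AlgSp.IsLocalOnSource (AlgSp.IsSmCover (S := S)) (LocP @Smooth) := by
  refine Source.isLocalOnSource (fun _ _ _ _ _ h ↦ h)
    (fun e k (_ : Smooth e) (_ : Smooth k) ↦ inferInstanceAs (Smooth (e ≫ k)))
    (fun e k he hs h ↦ SourceDescent.Scheme.smooth.descends e k he hs h)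
    (desc_of_single fun e k (_ : Smooth e) hs h ↦ ?_)
  exact H14.FppfDesc.Scheme.smooth_of_comp e k h

theorem of_etaleLocalST {P : MorphismProperty Scheme.{u}}
    (hP : SourceDescent.Scheme.EtaleLocalST P) [IsZariskiLocalAtSource P] :
    AlgSp.IsLocalOnSource (AlgSp.IsEtCover (S := S)) (LocP P) :=
  Source.isLocalOnSource (L := @Etale)
    (fun _ _ hA hB g h ↦ (AlgStack.Source.isEtaleMor_iff hA hB g).1 h)
    (fun e k he hk ↦ hP.comp e k (hP.etale e he) hk) hP.descends (desc_of_single hP.descends)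

end Groth.Agent.Lib.AlgSpFpqc.SourceClasses
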