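import Mathlib.AlgebraicGeometry.Morphisms.Flat
import Groth.Agent.Lib.AlgSpFpqc.Cover
import Groth.Agent.Lib.AlgSpMor.Topo
import Groth.Agent.Lib.AlgSpMor.QC
import Groth.Agent.Lib.AlgSpMor.Perm

/-!
# Topological properties and quasi-compactness are local on the base for fpqc coverings
-/

set_option autoImplicit false
set_option backward.isDefEq.respectTransparency false
set_option backward.isDefEq.respectTransparency.types false

universe u w

open CategoryTheory CategoryTheory.Limits AlgebraicGeometry Topology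

namespace Groth.Agent.Lib.AlgSpFpqc.Topo

open AlgSp (Sp yon IsAlgSpace RepWith Points UnivSp)
open Groth.Agent.Lib.AlgSpace Groth.Agent.Lib.AlgSpFpqc.Cover

/-- A family of cartesian squares whose lower maps are jointly surjective and detect open sets. -/
structure QuotFamily {ι : Type w} {A B : Type*} {A' B' : ι → Type*} [TopologicalSpace A]
    [TopologicalSpace B] [∀ i, TopologicalSpace (A' i)] [∀ i, TopologicalSpace (B' i)]
    (f : A → B) (f' : ∀ i, A' i → B' i) (p : ∀ i, A' i → A) (q : ∀ i, B' i → B) : Prop where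
  w : ∀ i a, f (p i a) = q i (f' i a)
  ex : ∀ i a b, f a = q i b → ∃ a', p i a' = a ∧ f' i a' = b
  cont : ∀ i, Continuous (p i)
  surj : ∀ b, ∃ i b', q i b' = b
  quot : ∀ W : Set B, (∀ i, IsOpen (q i ⁻¹' W)) → IsOpen W

section Family

variable {ι : Type w} {A B : Type*} {A' B' : ι → Type*} [TopologicalSpace A] [TopologicalSpace B]
  [∀ i, TopologicalSpace (A' i)] [∀ i, TopologicalSpace (B' i)]
  {f : A → B} {f' : ∀ i, A' i → B' i} {p : ∀ i, A' i → A} {q : ∀ i, B' i → B}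

theorem QuotFamily.preimage_image (h : QuotFamily f f' p q) (i : ι) (W : Set A) :
    q i ⁻¹' (f '' W) = f' i '' (p i ⁻¹' W) := by
  ext b
  constructor
  · rintro ⟨a, ha, e⟩
    obtain ⟨a', rfl, rfl⟩ := h.ex i a b e
    exact ⟨a', ha, rfl⟩
  · rintro ⟨a', ha, rfl⟩
    exact ⟨p i a', ha, h.w i a'⟩

theorem QuotFamily.isOpenMap (h : QuotFamily f f' p q) (h' : ∀ i, IsOpenMap (f' i)) :
    IsOpenMap f := fun W hW ↦ h.quot _ fun i ↦ by
  rw [h.preimage_image]
  exact h' i _ (hW.preimage (h.cont i))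

theorem QuotFamily.isClosedMap (h : QuotFamily f f' p q) (h' : ∀ i, IsClosedMap (f' i)) :
    IsClosedMap f := fun W hW ↦ isOpen_compl_iff.1 (h.quot _ fun i ↦ by
  rw [Set.preimage_compl, h.preimage_image, isOpen_compl_iff]
  exact h' i _ (hW.preimage (h.cont i)))

theorem QuotFamily.injective (h : QuotFamily f f' p q) (h' : ∀ i, Function.Injective (f' i)) :
    Function.Injective f := fun a b e ↦ by
  obtain ⟨i, z, hz⟩ := h.surj (f a)
  obtain ⟨a', rfl, rfl⟩ := h.ex i a z hz.symm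
  obtain ⟨b', rfl, hb⟩ := h.ex i b (f' i a') (e.symm.trans hz.symm)
  rw [h' i hb]

theorem QuotFamily.surjective (h : QuotFamily f f' p q) (h' : ∀ i, Function.Surjective (f' i)) :
    Function.Surjective f := fun b ↦ by
  obtain ⟨i, z, rfl⟩ := h.surj b
  obtain ⟨a', rfl⟩ := h' i z
  exact ⟨p i a', h.w i a'⟩

theorem QuotFamily.isQuotientMap (h : QuotFamily f f' p q) (hf : Continuous f)
    (h' : ∀ i, IsQuotientMap (f' i)) : IsQuotientMap f := by
  refine (Topology.isQuotientMap_iff _).2 ⟨Topology.isCoinducing_iff.2 fun V ↦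
    ⟨fun hV ↦ h.quot _ fun i ↦ (h' i).isOpen_preimage.1 ?_, fun hV ↦ hV.preimage hf⟩,
    h.surjective fun i ↦ (h' i).surjective⟩
  have e : f' i ⁻¹' (q i ⁻¹' V) = p i ⁻¹' (f ⁻¹' V) := Set.ext fun a ↦ by simp [h.w]
  rw [e]
  exact hV.preimage (h.cont i)

theorem QuotFamily.isHomeomorph (h : QuotFamily f f' p q) (hf : Continuous f)
    (h' : ∀ i, IsHomeomorph (f' i)) : IsHomeomorph f :=
  ⟨hf, h.isOpenMap fun i ↦ (h' i).isOpenMap, h.injective fun i ↦ (h' i).injective,
    h.surjective fun i ↦ (h' i).surjective⟩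

end Family

/-- `Φ` descends along families detecting open sets. -/
def QuotLocal (Φ : ∀ {A B : Type (u + 1)} [TopologicalSpace A] [TopologicalSpace B],
    (A → B) → Prop) : Prop :=
  ∀ {ι : Type u} {A B : Type (u + 1)} {A' B' : ι → Type (u + 1)} [TopologicalSpace A]
    [TopologicalSpace B] [∀ i, TopologicalSpace (A' i)] [∀ i, TopologicalSpace (B' i)]
    (f : A → B) (f' : ∀ i, A' i → B' i) (p : ∀ i, A' i → A) (q : ∀ i, B' i → B),
    QuotFamily f f' p q → Continuous f → (∀ i, Φ (f' i)) → Φ f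

theorem quotLocal_isOpenMap : QuotLocal.{u} fun f ↦ IsOpenMap f :=
  fun _ _ _ _ h _ h' ↦ h.isOpenMap h'

theorem quotLocal_isClosedMap : QuotLocal.{u} fun f ↦ IsClosedMap f :=
  fun _ _ _ _ h _ h' ↦ h.isClosedMap h'

theorem quotLocal_injective : QuotLocal.{u} fun f ↦ Function.Injective f :=
  fun _ _ _ _ h _ h' ↦ h.injective h'

theorem quotLocal_surjective : QuotLocal.{u} fun f ↦ Function.Surjective f :=
  fun _ _ _ _ h _ h' ↦ h.surjective h'

theorem quotLocal_isQuotientMap : QuotLocal.{u} fun f ↦ IsQuotientMap f :=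
  fun _ _ _ _ h hf h' ↦ h.isQuotientMap hf h'

theorem quotLocal_isHomeomorph : QuotLocal.{u} fun f ↦ IsHomeomorph f :=
  fun _ _ _ _ h hf h' ↦ h.isHomeomorph hf h'

variable {S : Scheme.{u}}

/-- Restrictions of a family of affine schemes over an affine scheme along an affine scheme over
it. -/
theorem exists_pieces {T Z : Over S} (hT : IsAffine T.left) (hZ : IsAffine Z.left)
    {κ : Type u} {O : κ → Over S} (o : ∀ j, O j ⟶ T) (hO : ∀ j, IsAffine (O j).left) (g : Z ⟶ T) :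
    ∃ (V : κ → Over S) (t : ∀ j, V j ⟶ Z) (v : ∀ j, V j ⟶ O j),
      (∀ j, IsAffine (V j).left) ∧
      ∀ j, IsPullback (t j).left (v j).left g.left (o j).left ∧
        IsPullback ((yon S).map (t j)) ((yon S).map (v j)) ((yon S).map g) ((yon S).map (o j)) := by
  refine ⟨fun j ↦ pullback g (o j), fun j ↦ pullback.fst g (o j), fun j ↦ pullback.snd g (o j),
    fun j ↦ ?_, fun j ↦ ⟨(IsPullback.of_hasPullback g (o j)).map (Over.forget S),
      isPullback_yon (IsPullback.of_hasPullback g (o j))⟩⟩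
  have := hT; have := hZ; have := hO j
  have e : IsPullback (pullback.fst g (o j)).left (pullback.snd g (o j)).left g.left (o j).left :=
    (IsPullback.of_hasPullback g (o j)).map (Over.forget S)
  exact .of_isIso e.isoPullback.hom

theorem map_ofScheme {T T' : Over S} (φ : T ⟶ T') (x : ↥T.left) :
    Points.map ((yon S).map φ) (Points.ofScheme T x) = Points.ofScheme T' (φ.left x) := by
  rw [Points.map_ofPt, Category.id_comp, ← Category.comp_id ((yon S).map φ), ofPt_yon_map_comp]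

theorem range_comp_eq_univ {T Z : Over S} {κ : Type u} {O V : κ → Over S} {o : ∀ j, O j ⟶ T}
    {t : ∀ j, V j ⟶ Z} {v : ∀ j, V j ⟶ O j} {g : Z ⟶ T}
    (sq : ∀ j, IsPullback (t j).left (v j).left g.left (o j).left)
    (ho : ∀ x : ↥T.left, ∃ j y, (o j).left y = x) (z : ↥Z.left) : ∃ j y, (t j).left y = z := by
  obtain ⟨j, y, hy⟩ := ho (g.left z)
  obtain ⟨x, hx, -⟩ := Scheme.exists_preimage_of_isPullback (sq j) z y hy.symm
  exact ⟨j, x, hx⟩

variable {Φ : ∀ {A B : Type (u + 1)} [TopologicalSpace A] [TopologicalSpace B], (A → B) → Prop}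

theorem map_of_univSp {X Y : Sp S} (hY : IsAlgSpace Y) {f : X ⟶ Y}
    (h : UnivSp (fun _ _ f ↦ Φ (Points.map f)) f) : Φ (Points.map f) :=
  h hY (𝟙 Y) (𝟙 X) f IsPullback.of_id_fst

theorem stableBC_univSp (Q : MorphismProperty (Sp S)) : StableBC (UnivSp Q) :=
  fun _ _ _ _ _ _ _ _ _ g fst _ sq hf _ _ hZ g' fst' _ sq' ↦
    hf hZ (g' ≫ g) (fst' ≫ fst) _ (sq'.paste_horiz sq)

theorem affineTest_univSp (hΦ : Lib.AlgSpMor.Topo.CartLocal.{u} @Φ) :
    AffineTest (UnivSp (S := S) fun _ _ f ↦ Φ (Points.map f)) :=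
  fun X Y hX hY f h ↦ (Lib.AlgSpMor.Topo.univSp_iff_affine hΦ f).2 fun Z hZ g P fst snd sq ↦
    map_of_univSp (IsAlgSpace.yon_obj Z) (h Z hZ g P fst snd
      (isAlgSpace_of_isPullback sq hY.diag hX (IsAlgSpace.yon_obj Z)) sq)

/-- Descent along a family detecting open sets after every affine base change. -/
theorem univSp_of_family (hΦ : Lib.AlgSpMor.Topo.CartLocal.{u} @Φ) (hΦ' : QuotLocal.{u} @Φ)
    {T : Over S} (hT : IsAffine T.left) {κ : Type u} (O : κ → Over S) (o : ∀ j, O j ⟶ T)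
    (hO : ∀ j, IsAffine (O j).left) (ho : ∀ x : ↥T.left, ∃ j y, (o j).left y = x)
    (hquot : ∀ (Z : Over S) (g : Z ⟶ T) (V : κ → Over S) (t : ∀ j, V j ⟶ Z) (v : ∀ j, V j ⟶ O j),
      IsAffine Z.left → (∀ j, IsAffine (V j).left) →
      (∀ j, IsPullback (t j).left (v j).left g.left (o j).left) →
      ∀ W : Set (Points ((yon S).obj Z)),
        (∀ j, IsOpen (Points.map ((yon S).map (t j)) ⁻¹' W)) → IsOpen W)
    {X : Sp S} (f : X ⟶ (yon S).obj T)
    (h : ∀ j (Q : Sp S) (fst : Q ⟶ X) (snd : Q ⟶ (yon S).obj (O j)),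
      IsPullback fst snd f ((yon S).map (o j)) → UnivSp (fun _ _ f ↦ Φ (Points.map f)) snd) :
    UnivSp (fun _ _ f ↦ Φ (Points.map f)) f := by
  refine (Lib.AlgSpMor.Topo.univSp_iff_affine hΦ f).2 fun Z hZ g P fst snd sq ↦ ?_
  obtain ⟨g, rfl⟩ := (yon S).map_surjective g
  obtain ⟨V, t, v, hV, hsq⟩ := exists_pieces hT hZ o hO g
  refine hΦ' (Points.map snd) (fun j ↦ Points.map (pullback.snd snd ((yon S).map (t j))))
    (fun j ↦ Points.map (pullback.fst snd ((yon S).map (t j))))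
    (fun j ↦ Points.map ((yon S).map (t j)))
    ⟨fun j a ↦ ?_, fun j a c e ↦ ?_, fun j ↦ Points.continuous_map _, fun z ↦ ?_,
      hquot Z g V t v hZ hV fun j ↦ (hsq j).1⟩ (Points.continuous_map _) fun j ↦ ?_
  · rw [← Points.map_comp, ← Points.map_comp, pullback.condition]
  · exact exists_of_isPullback (IsPullback.of_hasPullback snd ((yon S).map (t j))) a c e
  · obtain ⟨y, rfl⟩ := (Points.schemeEquiv Z).surjective z
    obtain ⟨j, x, rfl⟩ := range_comp_eq_univ (fun j ↦ (hsq j).1) ho y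
    exact ⟨j, Points.ofScheme (V j) x, map_ofScheme (t j) x⟩
  · have sq1 := (IsPullback.of_hasPullback snd ((yon S).map (t j))).paste_horiz sq
    rw [(hsq j).2.w] at sq1
    exact h j _ _ _ (IsPullback.of_hasPullback f ((yon S).map (o j))) (IsAlgSpace.yon_obj (V j))
      ((yon S).map (v j)) _ _ (IsPullback.of_right' sq1 (IsPullback.of_hasPullback _ _))

theorem zarLocal_univSp (hΦ : Lib.AlgSpMor.Topo.CartLocal.{u} @Φ) (hΦ' : QuotLocal.{u} @Φ) :
    ZarLocal (UnivSp (S := S) fun _ _ f ↦ Φ (Points.map f)) := by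
  intro T hT κ _ O o hO ho hsurj X hX f h
  refine univSp_of_family hΦ hΦ' hT O o hO hsurj (fun Z g V t v _ _ sq W hW ↦ ?_) f
    fun j Q fst snd sq ↦ h j Q fst snd
      (isAlgSpace_of_isPullback sq (IsAlgSpace.yon_obj T).diag hX (IsAlgSpace.yon_obj (O j))) sq
  have hopen : ∀ j, IsOpenMap (Points.map ((yon S).map (t j))) := fun j ↦ by
    have := ho j
    have : IsOpenImmersion (t j).left := MorphismProperty.of_isPullback (sq j).flip (ho j)
    exact isOpenMap_map ((AlgSp.repWith_yon_map_iff _ _).2 inferInstance)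
  have e : W = ⋃ j, Points.map ((yon S).map (t j)) ''
      (Points.map ((yon S).map (t j)) ⁻¹' W) := by
    ext z
    simp only [Set.mem_iUnion, Set.mem_image, Set.mem_preimage]
    refine ⟨fun hz ↦ ?_, fun ⟨_, _, hy, e⟩ ↦ e ▸ hy⟩
    obtain ⟨y, rfl⟩ := (Points.schemeEquiv Z).surjective z
    obtain ⟨j, x, rfl⟩ := range_comp_eq_univ sq hsurj y
    exact ⟨j, Points.ofScheme (V j) x, (map_ofScheme (t j) x).symm ▸ hz, map_ofScheme (t j) x⟩
  rw [e]
  exact isOpen_iUnion fun j ↦ hopen j _ (hW j)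

theorem affineDesc_univSp (hΦ : Lib.AlgSpMor.Topo.CartLocal.{u} @Φ) (hΦ' : QuotLocal.{u} @Φ) :
    AffineDesc (UnivSp (S := S) fun _ _ f ↦ Φ (Points.map f)) := by
  intro T T' c hT hT' hcf hcs X X' f fst f' _ _ sq h
  refine univSp_of_family hΦ hΦ' hT (fun _ : PUnit.{u + 1} ↦ T') (fun _ ↦ c) (fun _ ↦ hT')
    (fun x ↦ ⟨⟨⟩, hcs.1 x⟩) (fun Z g V t v hZ hV sqt W hW ↦ ?_) f fun _ Q a b sq' ↦ ?_
  · have := hZ; have := hV ⟨⟩
    have : Flat (t ⟨⟩).left := MorphismProperty.of_isPullback (sqt ⟨⟩).flip hcf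
    have : Surjective (t ⟨⟩).left := MorphismProperty.of_isPullback (sqt ⟨⟩).flip hcs
    have : QuasiCompact (t ⟨⟩).left := inferInstance
    exact ((Lib.AlgSpMor.Topo.isQuotientMap_yon_map_iff (t ⟨⟩)).2
      (Flat.isQuotientMap_of_surjective (t ⟨⟩).left)).isOpen_preimage.1 (hW ⟨⟩)
  · intro Z Z' hZ g a' b' sq''
    have e : IsPullback (sq'.isoIsPullback _ _ sq).hom b f' (𝟙 _) :=
      IsPullback.of_horiz_isIso ⟨by simp⟩
    have sq3 := sq''.paste_horiz e
    rw [Category.comp_id] at sq3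
    exact h hZ g _ b' sq3

theorem isLocalOnBase_univSp (hΦ : Lib.AlgSpMor.Topo.CartLocal.{u} @Φ)
    (hΦ' : QuotLocal.{u} @Φ) :
    AlgSp.IsLocalOnBase (AlgSp.IsFpqcCover (S := S)) (UnivSp fun _ _ f ↦ Φ (Points.map f)) :=
  Cover.isLocalOnBase _ (stableBC_univSp _) (affineTest_univSp hΦ) (zarLocal_univSp hΦ hΦ')
    (affineDesc_univSp hΦ hΦ')

/-! ### Quasi-compactness -/

theorem compactSpace_of_family {κ : Type u} [Finite κ] {P : Sp S} {Q : κ → Sp S}
    (m : ∀ j, Q j ⟶ P) (hc : ∀ j, CompactSpace (Points (Q j)))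
    (hs : ∀ x : Points P, ∃ j, x ∈ Set.range (Points.map (m j))) : CompactSpace (Points P) :=
  ⟨by
    rw [show (Set.univ : Set (Points P)) = ⋃ j, Set.range (Points.map (m j)) from
      (Set.eq_univ_of_forall fun x ↦ Set.mem_iUnion.2 (hs x)).symm]
    exact isCompact_iUnion fun j ↦ by
      have := hc j
      exact isCompact_range (Points.continuous_map _)⟩

theorem qc_of_family {T : Over S} (hT : IsAffine T.left) {κ : Type u} [Finite κ] (O : κ → Over S)
    (o : ∀ j, O j ⟶ T) (hO : ∀ j, IsAffine (O j).left)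
    (ho : ∀ x : ↥T.left, ∃ j y, (o j).left y = x)
    {X : Sp S} (hX : IsAlgSpace X) (f : X ⟶ (yon S).obj T)
    (h : ∀ j (Q : Sp S) (fst : Q ⟶ X) (snd : Q ⟶ (yon S).obj (O j)),
      IsPullback fst snd f ((yon S).map (o j)) → AlgSp.IsQuasiCompactMor snd) :
    AlgSp.IsQuasiCompactMor f := by
  refine (Lib.AlgSpMor.QC.isQuasiCompactMor_iff_affine hX (IsAlgSpace.yon_obj T).diag).2
    fun Z hZ g P fst snd sq ↦ ?_
  obtain ⟨g, rfl⟩ := (yon S).map_surjective g
  obtain ⟨V, t, v, hV, hsq⟩ := exists_pieces hT hZ o hO g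
  refine compactSpace_of_family (fun j ↦ pullback.fst snd ((yon S).map (t j))) (fun j ↦ ?_)
    fun x ↦ ?_
  · have sq1 := (IsPullback.of_hasPullback snd ((yon S).map (t j))).paste_horiz sq
    rw [(hsq j).2.w] at sq1
    have := hV j
    exact Lib.AlgSpMor.QC.compactSpace_of_isQuasiCompactMor
      (h j _ _ _ (IsPullback.of_hasPullback f ((yon S).map (o j))))
      (IsPullback.of_right' sq1 (IsPullback.of_hasPullback _ _))
  · obtain ⟨y, hy⟩ := (Points.schemeEquiv Z).surjective (Points.map snd x)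
    obtain ⟨j, z, rfl⟩ := range_comp_eq_univ (fun j ↦ (hsq j).1) ho y
    obtain ⟨w, hw, -⟩ := exists_of_isPullback (IsPullback.of_hasPullback snd ((yon S).map (t j)))
      x (Points.ofScheme (V j) z) (hy.symm.trans (map_ofScheme (t j) z).symm)
    exact ⟨j, w, hw⟩

theorem isLocalOnBase_qc :
    AlgSp.IsLocalOnBase (AlgSp.IsFpqcCover (S := S)) AlgSp.IsQuasiCompactMor := by
  refine Cover.isLocalOnBase _
    (fun _ _ _ _ _ _ _ _ _ _ _ _ sq hf ↦ Lib.AlgSpMor.Perm.isQuasiCompactMor_baseChange sq hf)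
    (fun X Y hX hY f h ↦ (Lib.AlgSpMor.QC.isQuasiCompactMor_iff_affine hX hY.diag).2
      fun Z hZ g P fst snd sq ↦ ?_) (fun T hT κ _ O o hO _ hsurj X hX f h ↦ ?_)
    fun T T' c hT hT' _ hcs X X' f fst f' hX _ sq h ↦ ?_
  · have := hZ
    exact Lib.AlgSpMor.QC.compactSpace_of_isQuasiCompactMor (h Z hZ g P fst snd
      (isAlgSpace_of_isPullback sq hY.diag hX (IsAlgSpace.yon_obj Z)) sq)
      (g := 𝟙 _) (fst := 𝟙 P) (snd := snd) IsPullback.of_id_fst
  · exact qc_of_family hT O o hO hsurj hX f fun j Q fst snd sq ↦ h j Q fst snd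
      (isAlgSpace_of_isPullback sq (IsAlgSpace.yon_obj T).diag hX (IsAlgSpace.yon_obj (O j))) sq
  · refine qc_of_family hT (fun _ : PUnit.{u + 1} ↦ T') (fun _ ↦ c) (fun _ ↦ hT')
      (fun x ↦ ⟨⟨⟩, hcs.1 x⟩) hX f fun _ Q a b sq' ↦ ?_
    intro Z Z' hZ hZq g a' b' sq''
    have e : IsPullback (sq'.isoIsPullback _ _ sq).hom b f' (𝟙 _) :=
      IsPullback.of_horiz_isIso ⟨by simp⟩
    have := sq''.paste_horiz e
    rw [Category.comp_id] at this
    exact h hZ hZq g _ b' this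

end Groth.Agent.Lib.AlgSpFpqc.Topo
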