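import Groth.Agent.Lib.AlgSpFpqc.AffineCover
import Groth.Agent.Lib.AlgSpMor.DiagCharts

/-!
# Zariski locally quasi-separated algebraic spaces
-/

set_option autoImplicit false
set_option backward.isDefEq.respectTransparency false
set_option backward.isDefEq.respectTransparency.types false

universe u

open CategoryTheory CategoryTheory.Limits AlgebraicGeometry

namespace Groth.Agent.Lib.AlgSpFpqc.ZarQS

open AlgSp (Sp yon IsAlgSpace RepWith Points)
open Groth.Agent.Lib.AlgSpace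

variable {S : Scheme.{u}}

/-- An affine chart over an affine open of the base is quasi-compact when the space is open in a
quasi-separated one. -/
theorem quasiCompact_of_affine {X F : Sp S} (hX : AlgSp.IsQuasiSeparatedSp X) {j : F ⟶ X} [Mono j]
    {U : Over S} [IsAffine U.left] {p : (yon S).obj U ⟶ F} (hp : RepWith @Etale p)
    (hs : RepWith @Surjective p) {W : S.Opens} (hW : IsAffineOpen W)
    (hU : ∀ v : ↥U.left, U.hom v ∈ W) : RepWith @QuasiCompact p := by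
  refine ⟨hp.rep, fun T P ξ fst snd sq ↦ ?_⟩
  obtain ⟨q, rfl⟩ := (yon S).map_surjective fst
  have : Surjective snd.left := repWith_property hs sq
  have hT : Set.range T.hom ⊆ W := by
    rintro _ ⟨t, rfl⟩
    obtain ⟨z, rfl⟩ := snd.left.surjective t
    rw [← Scheme.Hom.comp_apply, Over.w snd, ← Over.w q, Scheme.Hom.comp_apply]
    exact hU _
  have hUW : Set.range U.hom ⊆ W := Set.range_subset_iff.2 hU
  obtain ⟨tW, htW⟩ : ∃ k, k ≫ W.ι = T.hom :=
    ⟨IsOpenImmersion.lift W.ι T.hom (by simpa using hT), IsOpenImmersion.lift_fac _ _ _⟩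
  obtain ⟨uW, huW⟩ : ∃ k, k ≫ W.ι = U.hom :=
    ⟨IsOpenImmersion.lift W.ι U.hom (by simpa using hUW), IsOpenImmersion.lift_fac _ _ _⟩
  have : IsAffine W := hW
  have sqj : IsPullback ((yon S).map q) ((yon S).map snd) (p ≫ j) (ξ ≫ j) :=
    isPullback_of_yon (by rw [reassoc_of% sq.w])
      (fun _ z z' h₁ h₂ ↦ sq.hom_ext h₁ h₂)
      fun _ z z' h ↦ ⟨sq.lift z z' (by rw [← cancel_mono j]; simpa using h), sq.lift_fst _ _ _,
        sq.lift_snd _ _ _⟩
  have h1 : QuasiCompact (prod.lift q snd).left := repWith_property hX (isPullback_diag_yonProd sqj)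
  have sqW : IsPullback (𝟙 U.left) uW U.hom W.ι :=
    ⟨⟨by rw [Category.id_comp, huW]⟩, ⟨PullbackCone.IsLimit.mk _ (fun s ↦ s.fst)
      (fun s ↦ Category.comp_id _)
      (fun s ↦ by rw [← cancel_mono W.ι, Category.assoc, huW, s.condition])
      (fun s m h₁ _ ↦ by simpa using h₁)⟩⟩
  have sqP := AlgSpMor.DiagCharts.isPullback_prod_left U T
  rw [← htW] at sqP
  have hw : ((prod.fst : U ⨯ T ⟶ U).left) ≫ U.hom =
      ((prod.snd : U ⨯ T ⟶ T).left ≫ tW) ≫ W.ι := by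
    rw [Category.assoc, htW, Over.w, Over.w]
  have sqP' := IsPullback.of_right' sqP sqW
  have h2 : QuasiCompact (prod.snd : U ⨯ T ⟶ T).left :=
    MorphismProperty.of_isPullback (P := @QuasiCompact) sqP' inferInstance
  have := MorphismProperty.comp_mem @QuasiCompact _ _ h1 h2
  rwa [← Over.comp_left, prod.lift_snd] at this

theorem exists_qc_charts {X : Sp S} (hX : IsAlgSpace X) (hq : AlgSp.IsQuasiSeparatedSp X) :
    ∃ (ι : Type u) (Xi : ι → Sp S) (j : ∀ i, Xi i ⟶ X),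
      (∀ i, IsAlgSpace (Xi i)) ∧ AlgSp.IsZarCover Xi j ∧
        ∀ i, ∃ (U : Over S) (p : (yon S).obj U ⟶ Xi i), IsAffine U.left ∧
          RepWith @QuasiCompact p ∧ RepWith @Etale p ∧ RepWith @Surjective p := by
  obtain ⟨ι, Xi, j, hXi, hc, h⟩ := AffineCover.exists_affine_charts hX
  refine ⟨ι, Xi, j, hXi, hc, fun i ↦ ?_⟩
  obtain ⟨U, p, hU, hp, hs, W, hW, hUW⟩ := h i
  have : Mono (j i) :=
    mono_of_repWith (fun _ _ k (_ : IsOpenImmersion k) ↦ (inferInstance : Mono k)) (hc.1 i)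
  exact ⟨U, p, hU, quasiCompact_of_affine (j := j i) hq hp hs hW hUW, hp, hs⟩

theorem isQuasiSeparatedSp_of_qc_chart {X : Sp S} (hX : IsAlgSpace X) {U : Over S}
    [IsAffine U.left] {p : (yon S).obj U ⟶ X} (hq : RepWith @QuasiCompact p)
    (hp : RepWith @Etale p) (hs : RepWith @Surjective p) : AlgSp.IsQuasiSeparatedSp X := by
  obtain ⟨R, t, s, sq⟩ := exists_isPullback_yon hX.diag p p
  have : QuasiCompact t.left := repWith_property hq sq.flip
  exact AlgSpMor.DiagCharts.isQuasiSeparatedSp_of_chart hX hp hs sq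

theorem iff_qc_charts (X : AlgSp.Space S) :
    (∃ (ι : Type u) (Xi : ι → AlgSp.Space S) (j : ∀ i, Xi i ⟶ X),
        AlgSp.IsZarCover (fun i => (Xi i).obj) (fun i => (j i).hom) ∧
          ∀ i, AlgSp.IsQuasiSeparatedSp (Xi i).obj) ↔
      (∃ (ι : Type u) (Xi : ι → AlgSp.Space S) (j : ∀ i, Xi i ⟶ X),
        AlgSp.IsZarCover (fun i => (Xi i).obj) (fun i => (j i).hom) ∧
          ∀ i, ∃ (U : Over S) (p : (yon S).obj U ⟶ (Xi i).obj), IsAffine U.left ∧
            RepWith @QuasiCompact p ∧ RepWith @Etale p ∧ RepWith @Surjective p) := by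
  constructor
  · rintro ⟨ι, Xi, j, hj, hq⟩
    choose κ F k hF hk h using fun i ↦ exists_qc_charts (Xi i).property (hq i)
    refine ⟨Σ i, κ i, fun r ↦ ⟨F r.1 r.2, hF r.1 r.2⟩, fun r ↦ ⟨k r.1 r.2 ≫ (j r.1).hom⟩,
      ⟨fun r ↦ repWith_comp ((hk r.1).1 r.2) (hj.1 r.1), fun x ↦ ?_⟩, fun r ↦ h r.1 r.2⟩
    obtain ⟨i, y, rfl⟩ := hj.2 x
    obtain ⟨l, z, rfl⟩ := (hk i).2 y
    exact ⟨⟨i, l⟩, z, Points.map_comp _ _ _⟩
  · rintro ⟨ι, Xi, j, hj, h⟩
    refine ⟨ι, Xi, j, hj, fun i ↦ ?_⟩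
    obtain ⟨U, p, hU, hq, hp, hs⟩ := h i
    exact isQuasiSeparatedSp_of_qc_chart (Xi i).property hq hp hs

end Groth.Agent.Lib.AlgSpFpqc.ZarQS
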